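import Mathlib.LinearAlgebra.Matrix.SpecialLinearGroup
import Mathlib.GroupTheory.OrderOfElement
import Mathlib.GroupTheory.Index
import Mathlib.Data.ZMod.Basic
import Mathlib.Tactic

/-!
# Recognition of `SL(2, 3)`

A group of order 24 generated by `i`, `k`, `e` with `i² = k²`, `k i = i³ k`, `i⁴ = 1`, `e³ = 1`,
`e i = k e`, `e k = i k e` is `SL(2, 3)`: the elements are `i^a k^b e^c` and left multiplication by the
generators is the same in every model.
-/

set_option autoImplicit false
set_option linter.style.haveILetI false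

namespace CfsgLib.GTwoCent.Tetra

/-- Normal forms. -/
abbrev Wd : Type := Fin 4 × Fin 2 × Fin 3

/-- The relations. -/
structure Rel {L : Type*} [Group L] (i k e : L) : Prop where
  i4 : i ^ 4 = 1
  k2 : k * k = i ^ 2
  ki : k * i = i ^ 3 * k
  e3 : e ^ 3 = 1
  ei : e * i = k * e
  ek : e * k = i * k * e

/-- The element of a normal form. -/
def val {L : Type*} [Group L] (i k e : L) (w : Wd) : L :=
  i ^ (w.1 : ℕ) * k ^ (w.2.1 : ℕ) * e ^ (w.2.2 : ℕ)

/-- Left multiplication by `i`. -/
def mI (w : Wd) : Wd := (w.1 + 1, w.2)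

/-- Left multiplication by `k`. -/
def mK (w : Wd) : Wd := (if w.2.1 = 0 then 3 * w.1 else 3 * w.1 + 2, w.2.1 + 1, w.2.2)

/-- Left multiplication by `e`. -/
def mE (w : Wd) : Wd :=
  let p : Fin 4 × Fin 2 := match w.1, w.2.1 with
    | 0, 0 => (0, 0)
    | 1, 0 => (0, 1)
    | 2, 0 => (2, 0)
    | 3, 0 => (2, 1)
    | 0, 1 => (1, 1)
    | 1, 1 => (1, 0)
    | 2, 1 => (3, 1)
    | 3, 1 => (3, 0)
  (p.1, p.2, w.2.2 + 1)

/-- The product of two normal forms. -/
def mul (w w' : Wd) : Wd := mI^[(w.1 : ℕ)] (mK^[(w.2.1 : ℕ)] (mE^[(w.2.2 : ℕ)] w'))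

section

variable {L : Type*} [Group L] {i k e : L} (h : Rel i k e)
include h

theorem pow_mod4 (n : ℕ) : i ^ n = i ^ (n % 4) := by
  conv_lhs => rw [← Nat.mod_add_div n 4, pow_add, pow_mul, h.i4, one_pow, mul_one]

theorem val_mI (w : Wd) : val i k e (mI w) = i * val i k e w := by
  obtain ⟨a, b, c⟩ := w
  simp only [val, mI, ← mul_assoc, ← pow_succ']
  congr 2
  rw [pow_mod4 h ((a : ℕ) + 1), Fin.val_add]
  rfl

theorem k_pow (a : ℕ) : k * i ^ a = i ^ (3 * a) * k := by
  induction a with
  | zero => simp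
  | succ a ih =>
    rw [pow_succ', ← mul_assoc, h.ki, mul_assoc, ih, ← mul_assoc, ← pow_add, Nat.mul_succ, add_comm]

theorem val_mK (w : Wd) : val i k e (mK w) = k * val i k e w := by
  obtain ⟨a, b, c⟩ := w
  simp only [val, mK, ← mul_assoc, k_pow h]
  congr 1
  fin_cases b
  · simp only [Fin.zero_eta, if_true, zero_add, Fin.val_one, pow_one, Fin.val_zero, pow_zero, mul_one]
    rw [pow_mod4 h (3 * (a : ℕ)), Fin.val_mul]
    rfl
  · simp only [Fin.mk_one, one_ne_zero, if_false, Fin.val_one, pow_one]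
    rw [show ((1 : Fin 2) + 1 : Fin 2) = 0 from rfl, Fin.val_zero, pow_zero, mul_one, mul_assoc (i ^ _) k k,
      h.k2, ← pow_add, pow_mod4 h (3 * (a : ℕ) + 2), Fin.val_add, Fin.val_mul]
    simp [Nat.add_mod]

theorem val_mE (w : Wd) : val i k e (mE w) = e * val i k e w := by
  obtain ⟨a, b, c⟩ := w
  have hi : ∀ x : L, e * (i * x) = k * (e * x) := fun x => by rw [← mul_assoc, h.ei, mul_assoc]
  have hk : ∀ x : L, e * (k * x) = i * (k * (e * x)) := fun x => by
    rw [← mul_assoc, h.ek, mul_assoc, mul_assoc]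
  have kk : ∀ x : L, k * (k * x) = i * (i * x) := fun x => by
    rw [← mul_assoc, h.k2, sq, mul_assoc]
  have kI : ∀ x : L, k * (i * x) = i * (i * (i * (k * x))) := fun x => by
    rw [← mul_assoc, h.ki, pow_succ, pow_two, mul_assoc, mul_assoc, mul_assoc]
  have i4 : ∀ x : L, i * (i * (i * (i * x))) = x := fun x => by
    have := h.i4
    rw [show (4 : ℕ) = 2 + 2 from rfl, pow_add, pow_two] at this
    rw [← mul_assoc, ← mul_assoc, ← mul_assoc, show i * i * i * i = 1 by rw [mul_assoc (i * i)]; exact this,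
      one_mul]
  have ec : e ^ ((c + 1 : Fin 3) : ℕ) = e * e ^ (c : ℕ) := by
    rw [← pow_succ', Fin.val_add]
    fin_cases c <;> simp [h.e3]
  fin_cases a <;> fin_cases b <;>
    simp only [val, mE] <;> rw [ec] <;>
    simp only [Fin.zero_eta, Fin.mk_one, Fin.reduceFinMk, Fin.val_zero, Fin.val_one, Fin.val_two,
      Fin.isValue, Fin.coe_ofNat_eq_mod, Nat.reduceMod, pow_zero, pow_one, one_mul, mul_one, pow_succ,
      mul_assoc, hi, hk, kk, kI, i4]

theorem val_iterate {f : Wd → Wd} {g : L} (hf : ∀ w, val i k e (f w) = g * val i k e w) :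
    ∀ (n : ℕ) (w : Wd), val i k e (f^[n] w) = g ^ n * val i k e w := by
  intro n
  induction n with
  | zero => simp
  | succ n ih => intro w; rw [Function.iterate_succ_apply', hf, ih, pow_succ', mul_assoc]

theorem val_mul (w w' : Wd) : val i k e (mul w w') = val i k e w * val i k e w' := by
  rw [mul, val_iterate h (val_mI h), val_iterate h (val_mK h), val_iterate h (val_mE h)]
  simp only [val, mul_assoc]

theorem val_surjective [Finite L] (hc : Nat.card L = 24) (hgen : Subgroup.closure ({i, k, e} : Set L) = ⊤) :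
    Function.Bijective (val i k e) := by
  rw [Nat.bijective_iff_surjective_and_card]
  refine ⟨fun x => ?_, by rw [hc, Nat.card_eq_fintype_card]; rfl⟩
  have hx : x ∈ Subgroup.closure ({i, k, e} : Set L) := hgen ▸ Subgroup.mem_top x
  rw [← Subgroup.mem_toSubmonoid, Subgroup.closure_toSubmonoid_of_finite] at hx
  induction hx using Submonoid.closure_induction_left with
  | one => exact ⟨(0, 0, 0), by simp [val]⟩
  | mul_left y hy z _ ih =>
    obtain ⟨w, rfl⟩ := ih
    rcases hy with rfl | rfl | rfl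
    exacts [⟨mI w, val_mI h w⟩, ⟨mK w, val_mK h w⟩, ⟨mE w, val_mE h w⟩]

end

open Matrix

/-- The model generators. -/
def mi : SpecialLinearGroup (Fin 2) (ZMod 3) := ⟨!![0, -1; 1, 0], by decide +kernel⟩

/-- The second model generator. -/
def mk : SpecialLinearGroup (Fin 2) (ZMod 3) := ⟨!![1, 1; 1, -1], by decide +kernel⟩

/-- The model element of order three. -/
def me : SpecialLinearGroup (Fin 2) (ZMod 3) := ⟨!![1, 1; 0, 1], by decide +kernel⟩

theorem model_bijective : Function.Bijective (val mi mk me) := by decide +kernel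

theorem model_rel : Rel mi mk me := by
  constructor <;> decide +kernel

/-- **Recognition of `SL(2, 3)`.** -/
theorem iso {L : Type*} [Group L] [Finite L] (hc : Nat.card L = 24) {i k e : L} (h : Rel i k e)
    (hgen : Subgroup.closure ({i, k, e} : Set L) = ⊤) :
    Nonempty (L ≃* SpecialLinearGroup (Fin 2) (ZMod 3)) := by
  let em := Equiv.ofBijective _ model_bijective
  let el := Equiv.ofBijective _ (val_surjective h hc hgen)
  refine ⟨{ el.symm.trans em with map_mul' := fun x y => ?_ }⟩
  obtain ⟨w, rfl⟩ := el.surjective x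
  obtain ⟨w', rfl⟩ := el.surjective y
  show em (el.symm (el w * el w')) = em (el.symm (el w)) * em (el.symm (el w'))
  rw [show el w * el w' = el (mul w w') from (val_mul h w w').symm, el.symm_apply_apply,
    el.symm_apply_apply, el.symm_apply_apply]
  exact val_mul model_rel w w'

end CfsgLib.GTwoCent.Tetra
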