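import Cfsg.Agent.GTwoCent.Basic
import Cfsg.Agent.GTwoCent.Tetra
import Mathlib.GroupTheory.Perm.Sign
import Mathlib.GroupTheory.Perm.Fin

/-!
# A normal quaternion subgroup lies in an `SL₂(3)`

The group permutes the three classes `{±a₁}`, `{±x₀}`, `{±x₁}` of roots of `z`.
-/

set_option autoImplicit false
set_option linter.unusedSectionVars false
set_option linter.style.haveILetI false

namespace CfsgLib.GTwoCent

open Subgroup CfsgLib.GTwoFusion
open scoped commutatorElement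

universe u

variable {G : Type u} [Group G] [Finite G] {P : Sylow 2 G} {d : ℕ} (D : Shape (P : Subgroup G) d)

/-- Representatives of the three classes of roots. -/
def cr : Fin 3 → G := ![a₁ D, D.t (D.h + 0) (-0) * D.s, D.t (D.h + 1) (-1) * D.s]

/-- `g` maps the class `i` to the class `j`. -/
def Moves (g : G) (i j : Fin 3) : Prop :=
  g * cr D i * g⁻¹ = cr D j ∨ g * cr D i * g⁻¹ = (cr D j)⁻¹

theorem cr_mem (i : Fin 3) : cr D i ∈ quat D := by
  fin_cases i
  exacts [a₁_mem D, ts_mem_quat D 0, ts_mem_quat D 1]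

theorem cr_sq (i : Fin 3) : cr D i * cr D i = zc D := by
  fin_cases i
  exacts [a₁_sq D, ts_sq D 0, ts_sq D 1]

theorem ts_inv (k : ZMod (4 * d)) :
    (D.t (D.h + k) (-k) * D.s)⁻¹ = D.t (D.h + (D.h + k)) (-(D.h + k)) * D.s := by
  refine inv_eq_of_mul_eq_one_right ?_
  rw [ts_mul_ts, h_cancel, add_neg_cancel, neg_add_cancel, D.t_zero]

theorem x_conj_a₁ : cr D 1 * a₁ D * (cr D 1)⁻¹ = (a₁ D)⁻¹ := by
  show D.t (D.h + 0) (-0) * D.s * a₁ D * (D.t (D.h + 0) (-0) * D.s)⁻¹ = _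
  rw [a₁, D.t_inv, mul_inv_eq_iff_eq_mul, ts_mul_t, t_mul_ts]
  congr 2 <;> ring

theorem a₁_conj_x : a₁ D * cr D 1 * (a₁ D)⁻¹ = (cr D 1)⁻¹ := by
  show a₁ D * (D.t (D.h + 0) (-0) * D.s) * (a₁ D)⁻¹ = (D.t (D.h + 0) (-0) * D.s)⁻¹
  rw [ts_inv, a₁, D.conj_t, D.s_t, D.t_t_assoc]
  have := dd_eq_h D
  congr 2
  · linear_combination this
  · linear_combination (-1 : ZMod (4 * d)) * this

theorem quat_le_gen : quat D ≤ closure {D.t 1 (-1), D.t (D.h + 0) (-0) * D.s} := by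
  haveI : NeZero (4 * d) := ⟨by have := D.d_pos; omega⟩
  have hk : ∀ k : ZMod (4 * d), D.t k (-k) ∈ closure ({D.t 1 (-1), D.t (D.h + 0) (-0) * D.s} : Set G) :=
    fun k => by
      rw [show D.t k (-k) = D.t 1 (-1) ^ k.val by rw [a₁_pow, mul_one, ZMod.natCast_zmod_val]]
      exact pow_mem (Subgroup.subset_closure (Set.mem_insert _ _)) _
  rintro g (⟨k, rfl⟩ | ⟨k, rfl⟩)
  · exact hk k
  · have := mul_mem (hk k) (subset_closure (Or.inr rfl) :
      D.t (D.h + 0) (-0) * D.s ∈ closure ({D.t 1 (-1), D.t (D.h + 0) (-0) * D.s} : Set G))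
    rwa [t_mul_ts, show k + (D.h + 0) = D.h + k by ring, show -k + -(0 : ZMod (4 * d)) = -k by ring] at this

theorem moves_of_commute {g : G} {i : Fin 3} (h : Commute g (cr D i)) : Moves D g i i :=
  Or.inl (by rw [h.eq, mul_inv_cancel_right])

theorem moves_comp {g g' : G} {i j k : Fin 3} (h : Moves D g i j) (h' : Moves D g' j k) :
    Moves D (g' * g) i k := by
  have e : ∀ x, g' * g * x * (g' * g)⁻¹ = g' * (g * x * g⁻¹) * g'⁻¹ := fun x => by group
  rcases h with h | h <;> rcases h' with h' | h' <;> simp only [Moves, e, h, ← conj_inv, h', inv_inv,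
    true_or, or_true]

variable (hz : ∀ x : G, Commute x (zc D))
include hz

/-- A normal quaternion subgroup has order eight. -/
theorem d_one (hq : (quat D).Normal) (hs : IsConj D.s (D.t D.h 0)) : d = 1 := by
  by_contra hd
  obtain ⟨g, hg⟩ := isConj_iff.1 (root_isConj D hz hs (ts_mem_quat D 0) (ts_sq D 0))
  rcases hq.conj_mem _ (t_mem_quat D 1) g with ⟨k, hk⟩ | ⟨k, hk⟩
  · have e : a₁ D = D.t 1 (-1) ^ d := by rw [a₁_pow, mul_one, a₁]
    rw [e, ← conj_pow, hk, a₁_pow] at hg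
    exact el_ne D hg
  · have h2 : D.t 1 (-1) * D.t 1 (-1) = zc D := by
      refine mul_left_cancel (a := g) (mul_right_cancel (b := g⁻¹) ?_)
      rw [conj_zc D hz, show g * (D.t 1 (-1) * D.t 1 (-1)) * g⁻¹ =
        g * D.t 1 (-1) * g⁻¹ * (g * D.t 1 (-1) * g⁻¹) by group, hk, ts_sq]
    rw [zc, D.t_mul] at h2
    have h3 : (((2 : ℕ) : ℕ) : ZMod (4 * d)) = ((2 * d : ℕ) : ZMod (4 * d)) := by
      rw [Nat.cast_ofNat, ← one_add_one_eq_two, (D.t_inj h2).1]
      rfl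
    have := D.d_pos
    rw [ZMod.natCast_eq_natCast_iff', Nat.mod_eq_of_lt (by omega), Nat.mod_eq_of_lt (by omega)] at h3
    omega

omit hz

section One

variable (hd : d = 1)
include hd

theorem cases_one (k : ZMod (4 * d)) : k = 0 ∨ k = 1 ∨ k = D.h + 0 ∨ k = D.h + 1 := by
  subst hd
  show k = 0 ∨ k = 1 ∨ k = ((2 * 1 : ℕ) : ZMod (4 * 1)) + 0 ∨ k = ((2 * 1 : ℕ) : ZMod (4 * 1)) + 1
  revert k
  decide

theorem root_class {e : G} (he : e ∈ quat D) (hee : e * e = zc D) :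
    ∃ i, e = cr D i ∨ e = (cr D i)⁻¹ := by
  rcases he with ⟨k, rfl⟩ | ⟨k, rfl⟩
  · exact ⟨0, root_t D hee⟩
  · rcases cases_one D hd k with rfl | rfl | rfl | rfl
    · exact ⟨1, Or.inl rfl⟩
    · exact ⟨2, Or.inl rfl⟩
    · exact ⟨1, Or.inr (ts_inv D 0).symm⟩
    · exact ⟨2, Or.inr (ts_inv D 1).symm⟩

theorem class_inj {i j : Fin 3} (h : cr D i = cr D j ∨ cr D i = (cr D j)⁻¹) : i = j := by
  have h01 : (0 : ZMod (4 * d)) ≠ 1 := by subst hd; decide
  have hh1 : (0 : ZMod (4 * d)) ≠ D.h + 1 ∧ (1 : ZMod (4 * d)) ≠ D.h + 0 := by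
    subst hd
    show (0 : ZMod (4 * 1)) ≠ ((2 * 1 : ℕ) : ZMod (4 * 1)) + 1 ∧
      (1 : ZMod (4 * 1)) ≠ ((2 * 1 : ℕ) : ZMod (4 * 1)) + 0
    decide
  have ha : ∀ k, a₁ D ≠ D.t (D.h + k) (-k) * D.s := fun k => el_ne D
  have ha' : ∀ k, (a₁ D)⁻¹ ≠ D.t (D.h + k) (-k) * D.s := fun k => by rw [a₁, D.t_inv]; exact el_ne D
  have hxy : ∀ k l, D.t (D.h + k) (-k) * D.s = D.t (D.h + l) (-l) * D.s → k = l := fun k l e =>
    add_left_cancel (D.t_inj (mul_right_cancel e)).1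
  have n01 : cr D 0 ≠ cr D 1 := ha 0
  have n02 : cr D 0 ≠ cr D 2 := ha 1
  have m01 : cr D 0 ≠ (cr D 1)⁻¹ := fun e => ha' 0 (inv_eq_iff_eq_inv.2 e)
  have m02 : cr D 0 ≠ (cr D 2)⁻¹ := fun e => ha' 1 (inv_eq_iff_eq_inv.2 e)
  have n12 : cr D 1 ≠ cr D 2 := fun e => h01 (hxy 0 1 e)
  have m12 : cr D 1 ≠ (cr D 2)⁻¹ := fun e => hh1.1 (hxy _ _ (e.trans (ts_inv D 1)))
  fin_cases i <;> fin_cases j <;> first | rfl | (exfalso; rcases h with h | h) <;>
    first
    | exact n01 h | exact n02 h | exact n12 h | exact n01 h.symm | exact n02 h.symm | exact n12 h.symm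
    | exact m01 h | exact m02 h | exact m12 h | exact m01 (inv_eq_iff_eq_inv.1 h.symm)
    | exact m02 (inv_eq_iff_eq_inv.1 h.symm) | exact m12 (inv_eq_iff_eq_inv.1 h.symm)

theorem a₁_one : a₁ D = D.t 1 (-1) := by
  subst hd
  rw [a₁, Nat.cast_one]

include hz

/-- The permutation of the classes. -/
theorem exists_chi (hq : (quat D).Normal) :
    ∃ χ : G →* Equiv.Perm (Fin 3), (∀ g i, Moves D g i (χ g i)) ∧
      (∀ g i j, Moves D g i j → χ g i = j) ∧ χ (D.t 1 0) = Equiv.swap 1 2 := by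
  classical
  have hex : ∀ g i, ∃ j, Moves D g i j := fun g i => root_class D hd (hq.conj_mem _ (cr_mem D i) g) (by
    rw [show g * cr D i * g⁻¹ * (g * cr D i * g⁻¹) = g * (cr D i * cr D i) * g⁻¹ by group, cr_sq,
      conj_zc D hz])
  choose f hf using hex
  have huniq : ∀ g i j, Moves D g i j → f g i = j := fun g i j h => by
    refine class_inj D hd ?_
    rcases hf g i with e | e <;> rcases h with e' | e' <;> rw [e'] at e
    · exact Or.inl e.symm
    · exact Or.inr e.symm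
    · exact Or.inr (inv_eq_iff_eq_inv.1 e.symm)
    · exact Or.inl (inv_injective e.symm)
  have hone : ∀ i, f 1 i = i := fun i => huniq 1 i i (moves_of_commute D (Commute.one_left _))
  have hmul : ∀ g g' i, f (g' * g) i = f g' (f g i) := fun g g' i =>
    huniq _ _ _ (moves_comp D (hf g i) (hf g' (f g i)))
  let χ : G →* Equiv.Perm (Fin 3) :=
    { toFun := fun g => ⟨f g, f g⁻¹, fun i => by rw [← hmul, inv_mul_cancel, hone],
        fun i => by rw [← hmul, mul_inv_cancel, hone]⟩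
      map_one' := Equiv.ext hone
      map_mul' := fun g g' => Equiv.ext fun i => hmul g' g i }
  refine ⟨χ, hf, huniq, ?_⟩
  have h0 : f (D.t 1 0) 0 = 0 := huniq _ _ _ (moves_of_commute D (show Commute _ (a₁ D) by
    show _ = _
    rw [a₁, D.t_mul, D.t_mul, add_comm (1 : ZMod (4 * d)), add_comm (0 : ZMod (4 * d))]))
  have h1 : f (D.t 1 0) 1 = 2 := huniq _ _ _ (Or.inl (ts_conj D 1))
  have key : ∀ σ : Equiv.Perm (Fin 3), σ 0 = 0 → σ 1 = 2 → σ = Equiv.swap 1 2 := by decide +kernel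
  exact key (χ (D.t 1 0)) h0 h1

variable {χ : G →* Equiv.Perm (Fin 3)} (hχ : ∀ g i, Moves D g i (χ g i))
  (hu : ∀ g i j, Moves D g i j → χ g i = j)
include hu

theorem chi_eq_one_of_commute {g : G} (h : ∀ y ∈ quat D, Commute g y) : χ g = 1 :=
  Equiv.ext fun i => hu _ _ _ (moves_of_commute D (h _ (cr_mem D i)))

theorem chi_quat {q : G} (hq : q ∈ quat D) : χ q = 1 := by
  have key : ∀ σ : Equiv.Perm (Fin 3), σ 0 = 0 → σ 1 = 1 → σ = 1 := by decide +kernel
  have h : quat D ≤ χ.ker := by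
    refine (quat_le_gen D).trans ((closure_le _).2 ?_)
    have e : D.t 1 (-1) = a₁ D := (a₁_one D hd).symm
    rintro x (rfl | rfl) <;> refine key _ ?_ ?_
    · rw [e]; exact hu _ _ _ (moves_of_commute D (Commute.refl (a₁ D)))
    · rw [e]; exact hu _ _ _ (Or.inr (a₁_conj_x D))
    · exact hu _ _ _ (Or.inr (x_conj_a₁ D))
    · exact hu _ _ _ (moves_of_commute D (Commute.refl (cr D 1)))
  exact h hq

include hχ

/-- An element fixing all classes induces an inner automorphism. -/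
theorem exists_inner {g : G} (hg : χ g = 1) :
    ∃ q ∈ quat D, ∀ y ∈ quat D, Commute (q⁻¹ * g) y := by
  have hfix : ∀ i, Moves D g i i := fun i => by simpa [hg] using hχ g i
  have hgen : ∀ q : G, q * cr D 0 * q⁻¹ = g * cr D 0 * g⁻¹ → q * cr D 1 * q⁻¹ = g * cr D 1 * g⁻¹ →
      ∀ y ∈ quat D, Commute (q⁻¹ * g) y := by
    intro q h0 h1
    have hc : ∀ x, q * x * q⁻¹ = g * x * g⁻¹ → Commute (q⁻¹ * g) x := fun x h =>
      mul_inv_eq_iff_eq_mul.1 (by
        rw [show q⁻¹ * g * x * (q⁻¹ * g)⁻¹ = q⁻¹ * (g * x * g⁻¹) * q by group, ← h]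
        group)
    have hle : quat D ≤ centralizer ({q⁻¹ * g} : Set G) := by
      refine (quat_le_gen D).trans ((closure_le _).2 ?_)
      have e : D.t 1 (-1) = cr D 0 := (a₁_one D hd).symm
      rintro x (rfl | rfl) <;> refine mem_centralizer_singleton_iff.2 ?_
      · rw [e]; exact (hc _ h0).symm.eq
      · exact (hc _ h1).symm.eq
    exact fun y hy => Commute.symm (mem_centralizer_singleton_iff.1 (hle hy))
  rcases hfix 0 with h0 | h0 <;> rcases hfix 1 with h1 | h1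
  · exact ⟨1, one_mem _, hgen 1 (by rw [h0]; simp) (by rw [h1]; simp)⟩
  · exact ⟨a₁ D, a₁_mem D, hgen _ (by rw [h0]; exact mul_inv_cancel_right _ _)
      (by rw [h1]; exact a₁_conj_x D)⟩
  · exact ⟨cr D 1, cr_mem D 1, hgen _ (by rw [h0]; exact x_conj_a₁ D)
      (by rw [h1, mul_inv_cancel_right])⟩
  · refine ⟨a₁ D * cr D 1, mul_mem (a₁_mem D) (cr_mem D 1), hgen _ ?_ ?_⟩
    · rw [h0, show a₁ D * cr D 1 * cr D 0 * (a₁ D * cr D 1)⁻¹ =
        a₁ D * (cr D 1 * cr D 0 * (cr D 1)⁻¹) * (a₁ D)⁻¹ by group, show cr D 0 = a₁ D from rfl,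
        x_conj_a₁ D, mul_inv_cancel, one_mul]
    · rw [h1, show a₁ D * cr D 1 * cr D 1 * (a₁ D * cr D 1)⁻¹ = a₁ D * cr D 1 * (a₁ D)⁻¹ by group,
        a₁_conj_x D]

end One

variable (hO : Cfsg.oddCore G = ⊥) (hs : IsConj D.s (D.t D.h 0)) (hq : (quat D).Normal)
include hz hO hs hq

/-- **A normal quaternion subgroup**, given an element moving `a₁` which is inner on the other side. -/
theorem sideQ (hx : ∃ x : G, ¬ Moves D x 0 0 ∧
    ∃ l ∈ ncl (swap D), ∀ k ∈ ncl (swap D), Commute (l⁻¹ * x) k) :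
    ∃ L, Comp D L := by
  classical
  haveI : Fact (Nat.Prime 2) := ⟨Nat.prime_two⟩
  haveI : Fact (Nat.Prime 3) := ⟨Nat.prime_three⟩
  have hd := d_one D hz hq hs
  obtain ⟨χ, hχ, hu, hχt⟩ := exists_chi D hz hd hq
  set K' := ncl (swap D) with hK'
  set J := centralizer (K' : Set G) with hJdef
  haveI hJn : J.Normal := by rw [hJdef]; infer_instance
  haveI : (centralizer (quat D : Set G)).Normal := inferInstance
  have hqJ : quat D ≤ J := fun y hy => mem_centralizer_iff.2 fun k hk =>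
    (normalClosure_commute D hz hO (subset_normalClosure hy) hk).symm.eq
  have hM : ∀ j ∈ J, (∀ y ∈ quat D, Commute j y) → j ∈ quat D := by
    intro j hj hjq
    have h := le_zpowers_of_comm D hz hO (J ⊓ centralizer (quat D : Set G))
      (fun x hx y hy => (mem_centralizer_iff.1 (mem_inf.1 hx).2 y hy).symm)
      (fun x hx y hy => (mem_centralizer_iff.1 (mem_inf.1 hx).1 y (subset_normalClosure hy)).symm)
    exact (zpowers_le.2 (zc_mem_quat D)) (h (mem_inf.2 ⟨hj, mem_centralizer_iff.2 fun y hy => (hjq y hy).symm⟩))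
  have hker : ∀ j ∈ J, χ j = 1 → j ∈ quat D := by
    intro j hj h
    obtain ⟨q, hqm, hqc⟩ := exists_inner D hz hd hχ hu h
    have := mul_mem hqm (hM _ (mul_mem (inv_mem (hqJ hqm)) hj) hqc)
    rwa [mul_inv_cancel_left] at this
  -- the size of `J`
  set χJ := χ.comp J.subtype with hχJ
  have hkerJ : χJ.ker = (quat D).subgroupOf J := by
    ext y
    simp only [MonoidHom.mem_ker, hχJ, MonoidHom.comp_apply, mem_subgroupOf]
    exact ⟨hker y y.2, fun h => chi_quat D hz hd hu h⟩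
  obtain ⟨T, hT⟩ := CommClosed.sylow_trace J P
  have hTq : (T : Subgroup J) = χJ.ker := by
    rw [hkerJ, hT]
    ext y
    simp only [mem_subgroupOf]
    exact ⟨fun h => mem_quat_of_comm D h fun k hk =>
      (mem_centralizer_iff.1 y.2 k (subset_normalClosure hk)).symm, fun h => quat_le D h⟩
  -- an element of the commutator subgroup moving `a₁`
  obtain ⟨x, hx0, l, hl, hlx⟩ := hx
  have hjJ : l⁻¹ * x ∈ J := mem_centralizer_iff.2 fun k hk => (hlx k hk).symm.eq
  have hχj : χ (l⁻¹ * x) 0 ≠ 0 := fun e => hx0 (by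
    have hl1 : χ l = 1 := chi_eq_one_of_commute D hz hd hu fun y hy =>
      (normalClosure_commute D hz hO (subset_normalClosure hy) hl).symm
    rw [map_mul, map_inv, hl1, inv_one, one_mul] at e
    simpa [e] using hχ x 0)
  set f := ⁅l⁻¹ * x, D.t 1 0⁆ with hf
  have hfJ : f ∈ J := by
    rw [hf, commutatorElement_def, mul_assoc, mul_assoc]
    refine mul_mem hjJ ?_
    rw [← mul_assoc]
    exact hJn.conj_mem _ (inv_mem hjJ) _
  have hfc : f ∈ commutator G := Subgroup.commutator_mem_commutator (mem_top _) (mem_top _)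
  have hf1 : χ f ≠ 1 := by
    have key : ∀ σ : Equiv.Perm (Fin 3), σ 0 ≠ 0 → ⁅σ, Equiv.swap (1 : Fin 3) 2⁆ ≠ 1 := by decide +kernel
    rw [hf, map_commutatorElement, hχt]
    exact key _ hχj
  have hrange : Nat.card χJ.range = 3 := by
    have h6 : Nat.card χJ.range ∣ 6 := by
      have := card_subgroup_dvd_card χJ.range
      rwa [Nat.card_eq_fintype_card (α := Equiv.Perm (Fin 3)), Fintype.card_perm, Fintype.card_fin] at this
    have hodd : ¬ 2 ∣ Nat.card χJ.range := by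
      rw [← index_ker, ← hTq]
      exact T.not_dvd_index
    have hne : Nat.card χJ.range ≠ 1 := fun h => hf1 (by
      have := (card_eq_one.1 h).le (⟨⟨f, hfJ⟩, rfl⟩ : χ f ∈ χJ.range)
      simpa using this)
    have := Nat.le_of_dvd (by norm_num) h6
    interval_cases (Nat.card χJ.range) <;> omega
  have hJcard : Nat.card J = 24 := by
    rw [← χJ.ker.card_mul_index, index_ker, hrange, hkerJ,
      Nat.card_congr (subgroupOfEquivOfLe hqJ).toEquiv, quat_card, hd]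
  have hcube : ∀ y ∈ J, χ y ^ 3 = 1 := fun y hy => by
    have := pow_card_eq_one' (x := (⟨χ y, ⟨⟨y, hy⟩, rfl⟩⟩ : χJ.range))
    rw [hrange] at this
    simpa using congrArg Subtype.val this
  -- the element of order three
  obtain ⟨e, heJ, hec, he3, he0, he1⟩ : ∃ e, e ∈ J ∧ e ∈ commutator G ∧ e ^ 3 = 1 ∧ χ e 0 = 1 ∧ χ e 1 = 2 := by
    have h24 : f ^ 24 = 1 := by
      have := pow_card_eq_one' (x := (⟨f, hfJ⟩ : J))
      rw [hJcard] at this
      simpa using congrArg Subtype.val this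
    have key : ∀ σ : Equiv.Perm (Fin 3), σ ^ 3 = 1 → σ ≠ 1 →
        ((σ ^ 8) 0 = 1 ∧ (σ ^ 8) 1 = 2) ∨ ((σ ^ 16) 0 = 1 ∧ (σ ^ 16) 1 = 2) := by decide +kernel
    rcases key _ (hcube f hfJ) hf1 with h | h
    · exact ⟨f ^ 8, pow_mem hfJ _, pow_mem hfc _, by rw [← pow_mul, h24], by rw [map_pow]; exact h.1,
        by rw [map_pow]; exact h.2⟩
    · exact ⟨f ^ 16, pow_mem hfJ _, pow_mem hfc _,
        by rw [← pow_mul, show 16 * 3 = 24 * 2 from rfl, pow_mul, h24, one_pow],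
        by rw [map_pow]; exact h.1, by rw [map_pow]; exact h.2⟩
  set k₀ := e * cr D 0 * e⁻¹ with hk₀
  have hk₀c : k₀ = cr D 1 ∨ k₀ = (cr D 1)⁻¹ := by simpa [Moves, he0] using hχ e 0
  have hk₁c : e * cr D 1 * e⁻¹ = cr D 2 ∨ e * cr D 1 * e⁻¹ = (cr D 2)⁻¹ := by
    simpa [Moves, he1] using hχ e 1
  have hc12 : cr D 0 * cr D 1 = cr D 2 := by
    show a₁ D * (D.t (D.h + 0) (-0) * D.s) = D.t (D.h + 1) (-1) * D.s
    rw [a₁_one D hd, t_mul_ts]
    congr 2 <;> ring
  have hinv : ∀ i, (cr D i)⁻¹ = cr D i * zc D := fun i =>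
    inv_eq_of_mul_eq_one_right (by rw [← mul_assoc, cr_sq, zc_sq])
  have hzz : ∀ a b : G, a * zc D * (b * zc D) = a * b := fun a b => by
    rw [(hz b).eq, mul_assoc, ← mul_assoc (zc D), zc_sq, one_mul]
  -- choice of the signs
  obtain ⟨i₀, k₁, hi₀, hk₁, hki, hkk, hei⟩ : ∃ i₀ k₁ : G, (i₀ = cr D 0 ∨ i₀ = (cr D 0)⁻¹) ∧
      (k₁ = cr D 1 ∨ k₁ = (cr D 1)⁻¹) ∧ e * i₀ * e⁻¹ = k₁ ∧ e * k₁ * e⁻¹ = i₀ * k₁ ∧ True := by
    have hcases : e * k₀ * e⁻¹ = cr D 0 * k₀ ∨ e * k₀ * e⁻¹ = cr D 0 * k₀ * zc D := by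
      rcases hk₀c with a | a <;> rw [a]
      · rcases hk₁c with b | b <;> rw [b]
        · exact Or.inl hc12.symm
        · exact Or.inr (by rw [hc12, hinv])
      · rw [← conj_inv, hinv 1, ← mul_assoc (cr D 0), hc12]
        rcases hk₁c with b | b <;> rw [b]
        · exact Or.inl (hinv 2)
        · exact Or.inr (by rw [inv_inv, mul_assoc, zc_sq, mul_one])
    rcases hcases with h | h
    · exact ⟨_, k₀, Or.inl rfl, hk₀c, rfl, h, trivial⟩
    · refine ⟨(cr D 0)⁻¹, k₀⁻¹, Or.inr rfl, ?_, by rw [← conj_inv], ?_, trivial⟩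
      · rcases hk₀c with a | a <;> rw [a]
        exacts [Or.inr rfl, Or.inl (inv_inv _)]
      · have hk0i : k₀⁻¹ = k₀ * zc D := inv_eq_of_mul_eq_one_right (by
          rw [← mul_assoc, hk₀, show e * cr D 0 * e⁻¹ * (e * cr D 0 * e⁻¹) = e * (cr D 0 * cr D 0) * e⁻¹ by
            group, cr_sq, conj_zc D hz, zc_sq])
        rw [hinv 0, hk0i, hzz, show e * (k₀ * zc D) * e⁻¹ = e * k₀ * e⁻¹ * (e * zc D * e⁻¹) by group,
          h, conj_zc D hz, mul_assoc, zc_sq, mul_one]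
  have hi2 : i₀ * i₀ = zc D := by
    rcases hi₀ with a | a <;> rw [a]
    · exact cr_sq D 0
    · rw [hinv, hzz, cr_sq]
  have hk2 : k₁ * k₁ = zc D := by
    rcases hk₁ with a | a <;> rw [a]
    · exact cr_sq D 1
    · rw [hinv, hzz, cr_sq]
  have hconj : k₁ * i₀ * k₁⁻¹ = i₀⁻¹ := by
    have h1 : cr D 1 * cr D 0 * (cr D 1)⁻¹ = (cr D 0)⁻¹ := x_conj_a₁ D
    have h2 : (cr D 1)⁻¹ * cr D 0 * cr D 1 = (cr D 0)⁻¹ := by
      conv_lhs => rw [show cr D 0 = (cr D 1 * cr D 0 * (cr D 1)⁻¹)⁻¹ by rw [h1, inv_inv]]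
      group
    rcases hi₀ with a | a <;> rcases hk₁ with b | b <;> rw [a, b]
    · exact h1
    · rw [inv_inv, h2]
    · rw [← conj_inv, h1]
    · rw [inv_inv, inv_inv, show (cr D 1)⁻¹ * (cr D 0)⁻¹ * cr D 1 = ((cr D 1)⁻¹ * cr D 0 * cr D 1)⁻¹ by group, h2,
        inv_inv]
  have hi4 : i₀ ^ 4 = 1 := by rw [show (4 : ℕ) = 2 + 2 from rfl, pow_add, sq, hi2, zc_sq]
  have hiJ : i₀ ∈ quat D := by
    rcases hi₀ with a | a <;> rw [a]
    exacts [cr_mem D 0, inv_mem (cr_mem D 0)]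
  have hkJ : k₁ ∈ quat D := by
    rcases hk₁ with a | a <;> rw [a]
    exacts [cr_mem D 1, inv_mem (cr_mem D 1)]
  let iJ : J := ⟨i₀, hqJ hiJ⟩
  let kJ : J := ⟨k₁, hqJ hkJ⟩
  let eJ : J := ⟨e, heJ⟩
  have hrel : Tetra.Rel iJ kJ eJ := by
    refine ⟨Subtype.ext hi4, Subtype.ext (show k₁ * k₁ = i₀ ^ 2 by rw [hk2, sq, hi2]), Subtype.ext ?_,
      Subtype.ext he3, Subtype.ext (mul_inv_eq_iff_eq_mul.1 hki), Subtype.ext (mul_inv_eq_iff_eq_mul.1 hkk)⟩
    show k₁ * i₀ = i₀ ^ 3 * k₁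
    rw [← mul_inv_eq_iff_eq_mul, hconj]
    exact inv_eq_of_mul_eq_one_right (by rw [← pow_succ', hi4])
  set H := closure ({i₀, k₁, e} : Set G) with hH
  have hqH : quat D ≤ H := by
    refine (quat_le_gen D).trans ((closure_le _).2 ?_)
    have h0 : cr D 0 ∈ H := by
      rcases hi₀ with a | a
      · rw [← a]; exact subset_closure (Or.inl rfl)
      · rw [← inv_inv (cr D 0), ← a]; exact inv_mem (subset_closure (Or.inl rfl))
    have h1 : cr D 1 ∈ H := by
      rcases hk₁ with a | a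
      · rw [← a]; exact subset_closure (Or.inr (Or.inl rfl))
      · rw [← inv_inv (cr D 1), ← a]; exact inv_mem (subset_closure (Or.inr (Or.inl rfl)))
    rintro y (rfl | rfl)
    · rwa [show D.t 1 (-1) = cr D 0 from (a₁_one D hd).symm]
    · exact h1
  have hHJ : H ≤ J := (closure_le _).2 (by
    rintro y (rfl | rfl | rfl)
    exacts [hqJ hiJ, hqJ hkJ, heJ])
  have he1' : e ≠ 1 := fun h => by rw [h, map_one] at he0; exact absurd he0 (by decide)
  have hHeq : H = J := eq_of_le_of_card_ge hHJ (by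
    rw [hJcard]
    refine Nat.le_of_dvd Nat.card_pos (Nat.Coprime.mul_dvd_of_dvd_of_dvd (show Nat.Coprime 8 3 by norm_num) ?_ ?_)
    · have := card_dvd_of_le hqH
      rwa [quat_card, hd] at this
    · rw [← orderOf_eq_prime he3 he1']
      exact H.orderOf_dvd_natCard (subset_closure (Or.inr (Or.inr rfl))))
  have hgen : closure ({iJ, kJ, eJ} : Set J) = ⊤ := by
    apply map_injective J.subtype_injective
    rw [MonoidHom.map_closure, Set.image_insert_eq, Set.image_insert_eq, Set.image_singleton,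
      ← MonoidHom.range_eq_map, range_subtype]
    exact hHeq
  refine ⟨J, hJn, hqJ, ⟨ZMod 3, inferInstance, inferInstance, by rw [ZMod.card]; decide,
    Tetra.iso hJcard hrel hgen⟩, fun j hj y hy => (mem_centralizer_iff.1 hj y hy).symm, ?_, ?_, ?_⟩
  · exact fun y hy => ⟨3, by decide, subset_normalClosure (hker _ (pow_mem hy 3) (by
      rw [map_pow]; exact hcube y hy))⟩
  · intro w hw
    have hsign : Equiv.Perm.sign (χ w) = 1 := by
      have := Abelianization.commutator_subset_ker (Equiv.Perm.sign.comp χ) hw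
      exact MonoidHom.mem_ker.1 this
    have key : ∀ σ τ : Equiv.Perm (Fin 3), τ 0 = 1 → τ 1 = 2 → Equiv.Perm.sign σ = 1 →
        σ = τ ^ 0 ∨ σ = τ ^ 1 ∨ σ = τ ^ 2 := by decide +kernel
    obtain ⟨n, hn⟩ : ∃ n, χ w = χ e ^ n := by
      rcases key _ _ he0 he1 hsign with h | h | h <;> exact ⟨_, h⟩
    obtain ⟨q, hqm, hqc⟩ := exists_inner D hz hd hχ hu (g := (e ^ n)⁻¹ * w) (by
      rw [map_mul, map_inv, map_pow, hn, inv_mul_cancel])
    refine ⟨e ^ n * q, mul_mem (pow_mem heJ n) (hqJ hqm), fun k hk => ?_⟩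
    rw [mul_inv_rev, mul_assoc]
    exact hqc k (normalClosure_le_normal (N := quat D) (le_refl _) hk)
  · rw [← hHeq]
    have hqc : quat D ≤ commutator G := by
      obtain ⟨g, hg⟩ := isConj_iff.1 (root_isConj D hz hs (ts_mem_quat D 0) (ts_sq D 0))
      have hmem : ⁅g, a₁ D⁆ ∈ commutator G := Subgroup.commutator_mem_commutator (mem_top _) (mem_top _)
      rw [commutatorElement_def, hg] at hmem
      haveI : (commutator G).Normal := inferInstance
      refine quat_le_normal D hz hs (mul_mem (ts_mem_quat D 0) (inv_mem (a₁_mem D))) hmem (fun h => ?_)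
        fun h => ?_
      · exact el_ne D (mul_inv_eq_one.1 h).symm
      · rw [mul_inv_eq_iff_eq_mul, a₁, zc, D.t_mul] at h
        exact el_ne D h.symm
    refine (closure_le _).2 ?_
    rintro y (rfl | rfl | rfl)
    exacts [hqc hiJ, hqc hkJ, hec]

end CfsgLib.GTwoCent
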