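import Cfsg.Agent.GTwoCent.SideN
import Cfsg.Agent.GTwoCent.SideQ

/-!
# The commutator subgroup is the product of the two components
-/

set_option autoImplicit false
set_option linter.unusedSectionVars false
set_option linter.style.haveILetI false

namespace CfsgLib.GTwoCent

open Subgroup CfsgLib.GTwoFusion
open scoped commutatorElement

universe u

variable {G : Type u} [Group G] [Finite G] {P : Sylow 2 G} {d : ℕ} (D : Shape (P : Subgroup G) d)
  (hz : ∀ x : G, Commute x (zc D)) (hO : Cfsg.oddCore G = ⊥)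
  (hs : IsConj D.s (D.t D.h 0)) (hs' : IsConj (swap D).s ((swap D).t (swap D).h 0))
include hz hO hs hs'

theorem exists_comp : ∃ L, Comp D L := by
  by_cases hq : (quat D).Normal
  swap
  · exact ⟨_, sideN D hz hO hs hq⟩
  have hz' : ∀ x : G, Commute x (zc (swap D)) := by rw [swap_zc]; exact hz
  have hd := d_one D hz hq hs
  obtain ⟨χ, hχ, hu, hχt⟩ := exists_chi D hz hd hq
  refine sideQ D hz hO hs hq ?_
  by_cases hq' : (quat (swap D)).Normal
  · -- both normal
    obtain ⟨χ', hχ', hu', hχt'⟩ := exists_chi (swap D) hz' hd hq'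
    obtain ⟨c, hc⟩ := isConj_iff.1 hs
    set e₁ := D.t (D.h + d) (-d) * D.s with he₁
    set e₂ := D.t (d : ZMod (4 * d)) d with he₂
    have he₁m : c * e₁ * c⁻¹ ∈ quat D := hq.conj_mem _ (ts_mem_quat D d) c
    have he₂m : c * e₂ * c⁻¹ ∈ quat (swap D) :=
      hq'.conj_mem _ (Or.inl ⟨d, by rw [swap_t, neg_neg]⟩) c
    have hprod : c * e₁ * c⁻¹ * (c * e₂ * c⁻¹) = a₁ D * D.t d d := by
      rw [show c * e₁ * c⁻¹ * (c * e₂ * c⁻¹) = c * (e₁ * e₂) * c⁻¹ by group, s_eq, hc, a₁, D.t_mul,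
        dd_eq_h D, neg_add_cancel]
    have hdd : D.t (d : ZMod (4 * d)) d ∈ quat (swap D) := Or.inl ⟨d, by rw [swap_t, neg_neg]⟩
    have hdiff : (a₁ D)⁻¹ * (c * e₁ * c⁻¹) = D.t d d * (c * e₂ * c⁻¹)⁻¹ := by
      rw [← mul_inv_eq_iff_eq_mul.2 hprod.symm]
      group
    have hboth := quat_inf D (mul_mem (inv_mem (a₁_mem D)) he₁m)
      (hdiff.symm ▸ mul_mem hdd (inv_mem he₂m))
    have hc1 : c * e₁ * c⁻¹ = a₁ D ∨ c * e₁ * c⁻¹ = (a₁ D)⁻¹ := by
      rcases hboth with e | e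
      · exact Or.inl (inv_mul_eq_one.1 e).symm
      · refine Or.inr (eq_inv_of_mul_eq_one_right ?_)
        rw [inv_mul_eq_iff_eq_mul] at e
        rw [e, ← mul_assoc, a₁_sq, zc_sq]
    have hc2 : c * e₂ * c⁻¹ = a₁ (swap D) ∨ c * e₂ * c⁻¹ = (a₁ (swap D))⁻¹ := by
      have ha : a₁ (swap D) = D.t d d := by rw [a₁, swap_t, neg_neg]
      rw [ha]
      rcases hboth with e | e <;> rw [hdiff] at e
      · exact Or.inl (mul_inv_eq_one.1 e).symm
      · refine Or.inr (eq_inv_of_mul_eq_one_right ?_)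
        rw [mul_inv_eq_iff_eq_mul] at e
        have h2 : D.t d d * D.t d d = zc D := by rw [D.t_mul, dd_eq_h D]; rfl
        refine mul_left_cancel (a := zc D) ?_
        rw [mul_one, ← mul_assoc, (hz _).symm.eq, mul_assoc, ← e, h2]
    have hχc : χ c 2 = 0 := by
      refine hu c 2 0 ?_
      have : cr D 2 = e₁ := by
        show D.t (D.h + 1) (-1) * D.s = e₁
        subst hd
        rw [he₁, Nat.cast_one]
      rw [Moves, this]
      exact hc1
    have hχ'c : χ' c 0 = 0 := hu' c 0 0 (by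
      rw [Moves, show cr (swap D) 0 = a₁ (swap D) from rfl]
      have : e₂ = a₁ (swap D) := by rw [a₁, swap_t, neg_neg]
      rw [this] at hc2
      exact hc2)
    have hχt'' : χ' (D.t 1 0) = Equiv.swap 1 2 := by
      rw [← hχt', swap_t, neg_zero]
    refine ⟨⁅c, D.t 1 0⁆, fun h => ?_, ?_⟩
    · have key : ∀ σ : Equiv.Perm (Fin 3), σ 2 = 0 → ⁅σ, Equiv.swap (1 : Fin 3) 2⁆ 0 ≠ 0 := by
        decide +kernel
      have h1 := hu _ 0 0 h
      rw [map_commutatorElement, hχt] at h1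
      exact key _ hχc h1
    · have key : ∀ σ : Equiv.Perm (Fin 3), σ 0 = 0 → ⁅σ, Equiv.swap (1 : Fin 3) 2⁆ = 1 := by
        decide +kernel
      obtain ⟨q, hqm, hqc⟩ := exists_inner (swap D) hz' hd hχ' hu' (g := ⁅c, D.t 1 0⁆) (by
        rw [map_commutatorElement, hχt'']
        exact key _ hχ'c)
      exact ⟨q, subset_normalClosure hqm, fun k hk =>
        hqc k (normalClosure_le_normal (N := quat (swap D)) (le_refl _) hk)⟩
  · -- the other one is not normal
    have hC := sideN (swap D) hz' hO hs' hq'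
    obtain ⟨g, hg⟩ := isConj_iff.1 (root_isConj D hz hs (ts_mem_quat D 0) (ts_sq D 0))
    refine ⟨⁅g, D.t 1 0⁆, fun h => ?_,
      hC.split _ (Subgroup.commutator_mem_commutator (mem_top _) (mem_top _))⟩
    have key : ∀ σ : Equiv.Perm (Fin 3), σ 0 = 1 → ⁅σ, Equiv.swap (1 : Fin 3) 2⁆ 0 ≠ 0 := by
      decide +kernel
    have h1 := hu _ 0 0 h
    rw [map_commutatorElement, hχt] at h1
    exact key _ (hu g 0 1 (Or.inl hg)) h1

/-- **The two components.** -/
theorem components :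
    ∃ L₁ L₂ : Subgroup G, L₁.Normal ∧ L₂.Normal ∧
      (∃ (F : Type) (_ : Field F) (_ : Fintype F), Odd (Fintype.card F) ∧
        Nonempty (L₁ ≃* Matrix.SpecialLinearGroup (Fin 2) F)) ∧
      (∃ (F : Type) (_ : Field F) (_ : Fintype F), Odd (Fintype.card F) ∧
        Nonempty (L₂ ≃* Matrix.SpecialLinearGroup (Fin 2) F)) ∧
      ⁅L₁, L₂⁆ = ⊥ ∧ L₁ ⊔ L₂ = commutator G := by
  have hz' : ∀ x : G, Commute x (zc (swap D)) := by rw [swap_zc]; exact hz
  have hss : IsConj (swap (swap D)).s ((swap (swap D)).t (swap (swap D)).h 0) := by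
    show IsConj (D.s * D.w * D.w) (D.t D.h (- -0))
    rwa [mul_assoc, D.w_sq, mul_one, neg_neg]
  obtain ⟨L, hL⟩ := exists_comp D hz hO hs hs'
  obtain ⟨L', hL'⟩ := exists_comp (swap D) hz' hO hs' hss
  haveI := hL.normal
  haveI := hL'.normal
  have hnL' : ∀ y ∈ L', ∀ k ∈ ncl D, Commute y k := fun y hy k hk =>
    hL'.comm y hy k (by rw [ncl_swap_swap]; exact hk)
  have hle : L ⊓ L' ≤ zpowers (zc D) := le_zpowers_of_comm D hz hO _
    (fun x hx y hy => hnL' x (mem_inf.1 hx).2 y (subset_normalClosure hy))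
    (fun x hx y hy => hL.comm x (mem_inf.1 hx).1 y (subset_normalClosure hy))
  have hcomm : ∀ l ∈ L, ∀ y ∈ L', Commute l y := by
    intro l hl y hy
    have hc : ⁅l, y⁆ ∈ zpowers (zc D) :=
      hle (Subgroup.commutator_le_inf L L' (Subgroup.commutator_mem_commutator hl hy))
    obtain ⟨k, hk⟩ := mem_zpowers_iff.1 hc
    have hc2 : ⁅l, y⁆ ^ 2 = 1 := by
      rw [← hk, ← zpow_natCast, ← zpow_mul, mul_comm, zpow_mul, zpow_natCast, sq, zc_sq, one_zpow]
    obtain ⟨m, hm, hym⟩ := hL'.pow y hy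
    have h1 : l * y ^ m * l⁻¹ = y ^ m := by rw [(hL.comm l hl _ hym).eq, mul_inv_cancel_right]
    rw [← conj_pow, show l * y * l⁻¹ = ⁅l, y⁆ * y by rw [commutatorElement_def]; group] at h1
    have hcy : Commute ⁅l, y⁆ y := by rw [← hk]; exact ((hz y).zpow_right k).symm
    rw [hcy.mul_pow, mul_eq_right] at h1
    obtain ⟨j, rfl⟩ := hm
    rw [pow_succ, pow_mul, hc2, one_pow, one_mul] at h1
    exact commutatorElement_eq_one_iff_mul_comm.1 h1
  refine ⟨L, L', hL.normal, hL'.normal, hL.sl, hL'.sl, ?_, le_antisymm (sup_le hL.le_comm hL'.le_comm) ?_⟩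
  · rw [commutator_eq_bot_iff_le_centralizer]
    exact fun l hl => mem_centralizer_iff.2 fun y hy => (hcomm l hl y hy).symm.eq
  intro x hx
  obtain ⟨l₁, hl₁, hc₁⟩ := hL.split x hx
  obtain ⟨l₂, hl₂, hc₂⟩ := hL'.split _ (mul_mem (inv_mem (hL.le_comm hl₁)) hx)
  have hM := le_zpowers_of_comm D hz hO (centralizer (ncl D : Set G) ⊓ centralizer (ncl (swap D) : Set G))
    (fun u hu y hy => (mem_centralizer_iff.1 (mem_inf.1 hu).1 y (subset_normalClosure hy)).symm)
    (fun u hu y hy => (mem_centralizer_iff.1 (mem_inf.1 hu).2 y (subset_normalClosure hy)).symm)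
  have hmem : l₂⁻¹ * (l₁⁻¹ * x) ∈ L := (zpowers_le.2 (hL.quat_le (zc_mem_quat D))) (hM (mem_inf.2
    ⟨mem_centralizer_iff.2 fun k hk => (((hnL' l₂ hl₂ k hk).inv_left).mul_left (hc₁ k hk)).symm.eq,
      mem_centralizer_iff.2 fun k hk => (hc₂ k hk).symm.eq⟩))
  have := mul_mem (mem_sup_left (T := L') hl₁) (mul_mem (mem_sup_right (S := L) hl₂) (mem_sup_left (T := L') hmem))
  rwa [mul_inv_cancel_left, mul_inv_cancel_left] at this

end CfsgLib.GTwoCent
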