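import Cfsg.Agent.GTwoCent.Split
import Cfsg.Agent.CommClosed.SylowNormal

/-!
# The component attached to one quaternion subgroup: what is to be shown
-/

set_option autoImplicit false
set_option linter.unusedSectionVars false
set_option linter.style.haveILetI false

namespace CfsgLib.GTwoCent

open Subgroup CfsgLib.GTwoFusion

universe u

variable {G : Type u} [Group G] [Finite G] {P : Sylow 2 G} {d : ℕ} (D : Shape (P : Subgroup G) d)

/-- The normal closure of a quaternion subgroup. -/
abbrev ncl : Subgroup G := normalClosure (quat D : Set G)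

theorem quat_swap_swap : quat (swap (swap D)) = quat D := SetLike.ext fun _ => mem_quat_swap_swap D

theorem ncl_swap_swap : ncl (swap (swap D)) = ncl D := by rw [ncl, quat_swap_swap]

/-- A component: a normal `SL₂` containing the quaternion subgroup, splitting the commutator subgroup. -/
structure Comp (L : Subgroup G) : Prop where
  normal : L.Normal
  quat_le : quat D ≤ L
  sl : ∃ (F : Type) (_ : Field F) (_ : Fintype F), Odd (Fintype.card F) ∧
    Nonempty (L ≃* Matrix.SpecialLinearGroup (Fin 2) F)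
  comm : ∀ l ∈ L, ∀ y ∈ ncl (swap D), Commute l y
  pow : ∀ y ∈ L, ∃ m : ℕ, Odd m ∧ y ^ m ∈ ncl D
  split : ∀ x ∈ commutator G, ∃ l ∈ L, ∀ k ∈ ncl D, Commute (l⁻¹ * x) k
  le_comm : L ≤ commutator G

theorem orderOf_zc : orderOf (zc D) = 2 := orderOf_eq_prime (by rw [sq, zc_sq]) (zc_ne D)

/-- The two quaternion elements at each index. -/
theorem quat_card : Nat.card (quat D) = 8 * d := by
  haveI : NeZero (4 * d) := ⟨by have := D.d_pos; omega⟩
  let f : ZMod (4 * d) × Bool → quat D := fun p =>
    if p.2 then ⟨_, t_mem_quat D p.1⟩ else ⟨_, ts_mem_quat D p.1⟩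
  have hf : Function.Bijective f := by
    constructor
    · rintro ⟨k, b⟩ ⟨l, c⟩ h
      cases b <;> cases c <;> simp only [f, Bool.false_eq_true, if_false, if_true] at h
      · have := (D.t_inj (mul_right_cancel (congrArg Subtype.val h))).2
        rw [neg_injective this]
      · exact absurd (congrArg Subtype.val h) D.el_ts_ne
      · exact absurd (congrArg Subtype.val h) (el_ne D)
      · rw [(D.t_inj (congrArg Subtype.val h)).1]
    · rintro ⟨g, ⟨k, rfl⟩ | ⟨k, rfl⟩⟩
      exacts [⟨(k, true), rfl⟩, ⟨(k, false), rfl⟩]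
  rw [← Nat.card_eq_of_bijective f hf, Nat.card_prod, Nat.card_zmod, Nat.card_eq_fintype_card (α := Bool),
    Fintype.card_bool]
  ring

variable (hz : ∀ x : G, Commute x (zc D)) (hO : Cfsg.oddCore G = ⊥)
include hz hO

/-- A normal subgroup meeting the Sylow subgroup inside `⟨z⟩` lies in `⟨z⟩`. -/
theorem le_zpowers_of_inf (M : Subgroup G) [M.Normal]
    (hM : ∀ x ∈ M, x ∈ (P : Subgroup G) → x = 1 ∨ x = zc D) : M ≤ zpowers (zc D) := by
  haveI : Fact (Nat.Prime 2) := ⟨Nat.prime_two⟩
  set Z := zpowers (zc D) with hZ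
  haveI hZn : Z.Normal := ⟨fun x hx g => by
    obtain ⟨k, rfl⟩ := mem_zpowers_iff.1 hx
    rw [((hz g).zpow_right k).eq, mul_inv_cancel_right]
    exact hx⟩
  set N := M ⊔ Z with hN
  haveI : N.Normal := by rw [hN]; infer_instance
  have hNP : ∀ x ∈ N, x ∈ (P : Subgroup G) → x ∈ Z := by
    intro x hx hxP
    obtain ⟨m, hm, c, hc, rfl⟩ := mem_sup_of_normal_right.1 hx
    refine mul_mem ?_ hc
    have hcP : c ∈ (P : Subgroup G) := (zpowers_le.2 (zc_mem D)) hc
    rcases hM m hm (by simpa using mul_mem hxP (inv_mem hcP)) with rfl | rfl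
    exacts [one_mem _, mem_zpowers _]
  obtain ⟨T, hT⟩ := CommClosed.sylow_trace N P
  have hTZ : (T : Subgroup N) = Z.subgroupOf N := by
    rw [hT]
    ext x
    simp only [mem_subgroupOf]
    exact ⟨hNP x x.2, fun h => (zpowers_le.2 (zc_mem D)) h⟩
  have hodd : Odd (Z.relIndex N) := by
    show Odd (Z.subgroupOf N).index
    rw [← hTZ, Nat.odd_iff, ← Nat.two_dvd_ne_zero]
    exact T.not_dvd_index
  exact le_sup_left.trans fun x hx => CommClosed.mem_zpowers_of_odd_relIndex hO (orderOf_zc D)
    (fun x => (hz x).eq) le_sup_right hodd x hx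

/-- A normal subgroup commuting with both quaternion subgroups is central of order at most two. -/
theorem le_zpowers_of_comm (M : Subgroup G) [M.Normal] (h1 : ∀ x ∈ M, ∀ y ∈ quat D, Commute x y)
    (h2 : ∀ x ∈ M, ∀ y ∈ quat (swap D), Commute x y) : M ≤ zpowers (zc D) :=
  le_zpowers_of_inf D hz hO M fun x hx hxP => quat_inf D (mem_quat_of_comm D hxP (h2 x hx))
    (mem_quat_of_comm (swap D) hxP fun y hy => h1 x hx y ((mem_quat_swap_swap D).1 hy))

omit hz hO

end CfsgLib.GTwoCent
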