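import Cfsg.Agent.GTwoCent.RootCent

/-!
# The quaternion subgroups are strongly closed

When the central involution of the shape is central in the whole group, a conjugate in the Sylow subgroup
of an element of a quaternion subgroup lies in that subgroup.
-/

set_option autoImplicit false
set_option linter.unusedSectionVars false
set_option linter.style.haveILetI false

namespace CfsgLib.GTwoCent

open Subgroup CfsgLib.GTwoFusion

universe u

variable {G : Type u} [Group G] [Finite G] {P : Sylow 2 G} {d : ℕ} (D : Shape (P : Subgroup G) d)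

/-- A nontrivial element other than `z` of a quaternion subgroup has a power squaring to `z`. -/
theorem exists_root_pow : ∀ n : ℕ, ∀ x ∈ quat D, orderOf x = n → x ≠ 1 → x ≠ zc D →
    ∃ m : ℕ, x ^ m * x ^ m = zc D := by
  haveI : Fact (Nat.Prime 2) := ⟨Nat.prime_two⟩
  intro n
  induction n using Nat.strong_induction_on with
  | _ n ih =>
    intro x hx hn h1 h2
    have h3 : x * x ≠ 1 := fun h => by
      rcases quat_sq_one D hx h with e | e
      exacts [h1 e, h2 e]
    by_cases h4 : x * x = zc D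
    · exact ⟨1, by rw [pow_one, h4]⟩
    have hlt : orderOf (x * x) < n := by
      obtain ⟨k, hk⟩ := IsPGroup.iff_orderOf.1 P.isPGroup' ⟨x, quat_le D hx⟩
      rw [Subgroup.orderOf_mk] at hk
      rw [← sq, orderOf_pow, ← hn, hk]
      rcases k with _ | k
      · rw [pow_zero, orderOf_eq_one_iff] at hk
        exact absurd hk h1
      · rw [Nat.gcd_eq_right (dvd_pow_self 2 (Nat.succ_ne_zero k))]
        exact Nat.div_lt_self (by positivity) (by norm_num)
    obtain ⟨m, hm⟩ := ih _ hlt (x * x) (mul_mem hx hx) rfl h3 h4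
    exact ⟨2 * m, by rw [pow_mul, sq]; exact hm⟩

variable (hz : ∀ x : G, Commute x (zc D))
include hz

theorem conj_zc (g : G) : g * zc D * g⁻¹ = zc D := by rw [(hz g).eq, mul_inv_cancel_right]

/-- A conjugate in the Sylow subgroup of a root lies in the same quaternion subgroup. -/
theorem root_closed {e g : G} (he : e ∈ quat D) (hee : e * e = zc D)
    (hg : g * e * g⁻¹ ∈ (P : Subgroup G)) : g * e * g⁻¹ ∈ quat D := by
  have h : g * e * g⁻¹ * (g * e * g⁻¹) = zc D := by
    rw [show g * e * g⁻¹ * (g * e * g⁻¹) = g * (e * e) * g⁻¹ by group, hee, conj_zc D hz]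
  exact (root_mem D hg h).resolve_right fun h' => root_not_conj D he hee hz h'

/-- **Strong closure.** -/
theorem quat_closed : ∀ n : ℕ, ∀ q ∈ quat D, orderOf q = n → ∀ g : G, g * q * g⁻¹ ∈ (P : Subgroup G) →
    g * q * g⁻¹ ∈ quat D := by
  intro n
  induction n using Nat.strong_induction_on with
  | _ n ih =>
  intro q hq hn g hgP
  by_cases hq1 : q = 1
  · rw [hq1, mul_one, mul_inv_cancel]; exact one_mem _
  by_cases hqz : q = zc D
  · rw [hqz, conj_zc D hz]; exact zc_mem_quat D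
  by_cases hqq : q * q = zc D
  · exact root_closed D hz hq hqq hgP
  obtain ⟨k, rfl⟩ | ⟨k, rfl⟩ := hq
  swap
  · exact absurd (ts_sq D k) hqq
  set q := D.t k (-k) with hqdef
  have hq : q ∈ quat D := t_mem_quat D k
  have hq2 : q * q ≠ 1 := fun h => by
    rcases quat_sq_one D hq h with e | e
    exacts [hq1 e, hqz e]
  have hlt : orderOf (q * q) < n := by
    obtain ⟨j, hj⟩ := IsPGroup.iff_orderOf.1 P.isPGroup' ⟨q, quat_le D hq⟩
    rw [Subgroup.orderOf_mk] at hj
    rw [← sq, orderOf_pow, ← hn, hj]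
    rcases j with _ | j
    · rw [pow_zero, orderOf_eq_one_iff] at hj
      exact absurd hj hq1
    · rw [Nat.gcd_eq_right (dvd_pow_self 2 (Nat.succ_ne_zero j))]
      exact Nat.div_lt_self (by positivity) (by norm_num)
  set y := g * q * g⁻¹ with hy
  have hy2 : y * y = g * (q * q) * g⁻¹ := by rw [hy]; group
  have hy2Q : y * y ∈ quat D := by
    rw [hy2]
    exact ih _ hlt (q * q) (mul_mem hq hq) rfl g (hy2 ▸ mul_mem hgP hgP)
  obtain ⟨l, hl⟩ : ∃ l, y * y = D.t l (-l) := by
    obtain ⟨i, j, hij⟩ := D.sq_mem_t hgP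
    rcases hy2Q with h | ⟨l, h⟩
    · exact h
    · exact absurd (hij.symm.trans h) (el_ne D)
  have hqqQ : q * q ∈ quat D := mul_mem hq hq
  have hy4 : y * y * (y * y) ≠ 1 := fun h => by
    rw [hy2, show g * (q * q) * g⁻¹ * (g * (q * q) * g⁻¹) = g * (q * q * (q * q)) * g⁻¹ by group,
      conj_eq_one_iff] at h
    rcases quat_sq_one D hqqQ h with e | e
    exacts [hq2 e, hqq e]
  have hyW : y ∈ wSub D := by
    refine (mem_wSub D).2 ?_
    rcases D.cases hgP with ⟨i, j, e⟩ | ⟨i, j, e⟩ | ⟨i, j, e⟩ | ⟨i, j, e⟩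
    · exact Or.inl ⟨i, j, e⟩
    · exfalso
      have e' : y = D.t i j * D.s := e
      rw [e', ts_mul_ts] at hl
      obtain ⟨h1, h2⟩ := D.t_inj hl
      refine hy4 ?_
      rw [e', ts_mul_ts, D.t_mul, D.t_eq_one_iff]
      constructor
      · linear_combination h1 + h2
      · linear_combination h1 + h2
    · exfalso
      have e' : y = D.t i j * D.w := e
      exact hy4 (by rw [e', tw_sq, mul_one])
    · exact Or.inr ⟨i, j, e⟩
  -- a power of `q * q` is `a₁` or its inverse
  obtain ⟨m, hm⟩ := exists_root_pow D _ (q * q) hqqQ rfl hq2 hqq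
  have hroot : ∀ k : ZMod (4 * d), D.t k (-k) ^ m * D.t k (-k) ^ m = zc D →
      D.t k (-k) ^ m = a₁ D ∨ D.t k (-k) ^ m = (a₁ D)⁻¹ := fun k h => by
    rw [a₁_pow] at h ⊢
    exact root_t D h
  have hsrc : (q * q) ^ m = a₁ D ∨ (q * q) ^ m = (a₁ D)⁻¹ := by
    have e : q * q = D.t (k + k) (-(k + k)) := by rw [hqdef, D.t_mul, neg_add]
    rw [e] at hm ⊢
    exact hroot _ hm
  have himg : (y * y) ^ m = a₁ D ∨ (y * y) ^ m = (a₁ D)⁻¹ := by
    rw [hl]
    refine hroot l ?_
    rw [← hl, hy2, conj_pow, show g * (q * q) ^ m * g⁻¹ * (g * (q * q) ^ m * g⁻¹) =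
      g * ((q * q) ^ m * (q * q) ^ m) * g⁻¹ by group, hm, conj_zc D hz]
  have hga : g * a₁ D * g⁻¹ = a₁ D ∨ g * a₁ D * g⁻¹ = (a₁ D)⁻¹ := by
    rw [hy2, conj_pow] at himg
    rcases hsrc with e | e <;> rw [e] at himg
    · exact himg
    · rcases himg with f | f
      · refine Or.inr ?_
        rwa [← conj_inv, inv_eq_iff_eq_inv] at f
      · refine Or.inl ?_
        rwa [← conj_inv, inv_inj] at f
  rcases hga with e | e
  · exact mem_quat_of_conj D hz (mul_inv_eq_iff_eq_mul.1 e) hyW hy.symm hl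
  · set x := D.t (D.h + 0) (-0) * D.s with hx
    have hxt : ∀ j, x * D.t j (-j) * x⁻¹ = D.t (-j) (- -j) := fun j => by
      rw [mul_inv_eq_iff_eq_mul, hx, ts_mul_t, t_mul_ts]
      congr 2 <;> ring
    have hgx : Commute (g * x) (a₁ D) := by
      refine mul_inv_eq_iff_eq_mul.1 ?_
      rw [show g * x * a₁ D * (g * x)⁻¹ = g * (x * a₁ D * x⁻¹) * g⁻¹ by group, a₁, hxt, ← D.t_inv,
        show g * (D.t (d : ZMod (4 * d)) (-(d : ZMod (4 * d))))⁻¹ * g⁻¹ = (g * a₁ D * g⁻¹)⁻¹ by rw [a₁]; group,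
        e, inv_inv]
      rfl
    refine mem_quat_of_conj D hz hgx (k := -k) hyW ?_ hl
    rw [show g * x * D.t (-k) (- -k) * (g * x)⁻¹ = g * (x * D.t (-k) (- -k) * x⁻¹) * g⁻¹ by group, hxt,
      neg_neg, hy]

omit hz

end CfsgLib.GTwoCent
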