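import Cfsg.Agent.GTwoFusion.Fusion

/-!
# The two quaternion subgroups of a Sylow 2-subgroup of `G₂` type

In the shape `(Z × Z) : (2 × 2)` the elements squaring to the central involution `z` lie in two
quaternion subgroups `quat` and `swap.quat`, which commute elementwise and meet in `⟨z⟩`.
-/

set_option autoImplicit false
set_option linter.unusedSectionVars false
set_option linter.style.haveILetI false

namespace CfsgLib.GTwoCent

open Subgroup CfsgLib.GTwoFusion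

universe u

variable {G : Type u} [Group G] {P : Subgroup G} {d : ℕ} (D : Shape P d)

theorem dd_eq_h : (d : ZMod (4 * d)) + d = D.h := by
  rw [Shape.h, ← Nat.cast_add, two_mul]

/-- The shape with the two quaternion subgroups interchanged. -/
def swap : Shape P d where
  t i j := D.t i (-j)
  s := D.s * D.w
  w := D.w
  d_pos := D.d_pos
  t_mul i j k l := by rw [D.t_mul, neg_add]
  t_mem i j := D.t_mem _ _
  s_mem := mul_mem D.s_mem D.w_mem
  w_mem := D.w_mem
  s_sq := by rw [mul_assoc, D.ws_assoc, D.w_sq, mul_one, D.s_sq]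
  w_sq := D.w_sq
  sw := by rw [← mul_assoc, D.sw]
  s_t i j := by rw [D.sw_mul_t, neg_neg]
  w_t i j := by rw [D.w_t]
  cover g hg := by
    rcases D.cases hg with ⟨i, j, rfl⟩ | ⟨i, j, rfl⟩ | ⟨i, j, rfl⟩ | ⟨i, j, rfl⟩
    · exact ⟨i, -j, 0, 0, by simp⟩
    · exact ⟨i, -j, 1, 1, by simp [mul_assoc, D.w_sq]⟩
    · exact ⟨i, -j, 0, 1, by simp⟩
    · exact ⟨i, -j, 1, 0, by simp⟩
  card := D.card

@[simp] theorem swap_t (i j : ZMod (4 * d)) : (swap D).t i j = D.t i (-j) := rfl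

theorem swap_s : (swap D).s = D.s * D.w := rfl

theorem swap_w : (swap D).w = D.w := rfl

theorem swap_h : (swap D).h = D.h := rfl

/-- The central involution. -/
def zc : G := D.t D.h D.h

theorem swap_zc : zc (swap D) = zc D := by
  show D.t D.h (-D.h) = D.t D.h D.h
  rw [D.neg_h]

/-- The underlying set of a quaternion subgroup. -/
def IsQ (g : G) : Prop :=
  (∃ k, g = D.t k (-k)) ∨ ∃ k, g = D.t (D.h + k) (-k) * D.s

theorem t_mul_ts (i j k l : ZMod (4 * d)) :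
    D.t i j * (D.t k l * D.s) = D.t (i + k) (j + l) * D.s := D.t_t_assoc i j k l D.s

theorem ts_mul_t (i j k l : ZMod (4 * d)) :
    D.t i j * D.s * D.t k l = D.t (i + l) (j + k) * D.s := by
  rw [mul_assoc, D.s_t, D.t_t_assoc]

theorem ts_mul_ts (i j k l : ZMod (4 * d)) :
    D.t i j * D.s * (D.t k l * D.s) = D.t (i + l) (j + k) := by
  rw [mul_assoc, D.s_t_assoc, D.s_sq, mul_one, D.t_mul]

theorem h_cancel (k : ZMod (4 * d)) : D.h + (D.h + k) = k := by
  rw [← add_assoc, D.h_add_h, zero_add]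

/-- The quaternion subgroup. -/
def quat : Subgroup G where
  carrier := {g | IsQ D g}
  one_mem' := Or.inl ⟨0, by rw [neg_zero, D.t_zero]⟩
  mul_mem' := by
    rintro a b (⟨k, rfl⟩ | ⟨k, rfl⟩) (⟨l, rfl⟩ | ⟨l, rfl⟩)
    · exact Or.inl ⟨k + l, by rw [D.t_mul, neg_add]⟩
    · exact Or.inr ⟨k + l, by rw [t_mul_ts, neg_add]; congr 2; ring⟩
    · refine Or.inr ⟨k - l, ?_⟩
      rw [ts_mul_t]
      congr 2 <;> ring
    · refine Or.inl ⟨D.h + k - l, ?_⟩
      rw [ts_mul_ts]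
      congr 1
      · ring
      · rw [show -(D.h + k - l) = -D.h + (-k + l) by ring, D.neg_h]
        ring
  inv_mem' := by
    rintro a (⟨k, rfl⟩ | ⟨k, rfl⟩)
    · exact Or.inl ⟨-k, by rw [D.t_inv]⟩
    · refine Or.inr ⟨D.h + k, inv_eq_of_mul_eq_one_right ?_⟩
      rw [ts_mul_ts, h_cancel]
      have h1 : D.h + k + -(D.h + k) = 0 := add_neg_cancel _
      rw [h1, neg_add_cancel, D.t_zero]

theorem mem_quat {g : G} : g ∈ quat D ↔ IsQ D g := Iff.rfl

theorem t_mem_quat (k : ZMod (4 * d)) : D.t k (-k) ∈ quat D := Or.inl ⟨k, rfl⟩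

theorem ts_mem_quat (k : ZMod (4 * d)) : D.t (D.h + k) (-k) * D.s ∈ quat D := Or.inr ⟨k, rfl⟩

theorem quat_le : quat D ≤ P := by
  rintro g (⟨k, rfl⟩ | ⟨k, rfl⟩)
  · exact D.t_mem _ _
  · exact mul_mem (D.t_mem _ _) D.s_mem

theorem zc_mem_quat : zc D ∈ quat D := Or.inl ⟨D.h, by rw [zc, D.neg_h]⟩

theorem zc_ne : zc D ≠ 1 := fun e => D.h_ne (D.t_eq_one_iff.1 e).1

theorem zc_sq : zc D * zc D = 1 := by rw [zc, D.t_mul, D.h_add_h, D.t_zero]

theorem zc_mem : zc D ∈ P := D.t_mem _ _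

theorem zc_comm {g : G} (hg : g ∈ P) : Commute (zc D) g := by
  have ht : ∀ i j, Commute (zc D) (D.t i j) := fun i j => by
    show _ * _ = _ * _
    rw [zc, D.t_mul, D.t_mul, add_comm D.h, add_comm D.h]
  have hs : Commute (zc D) D.s := by
    show _ * _ = _ * _
    rw [zc, D.s_t]
  have hw : Commute (zc D) D.w := by
    show _ * _ = _ * _
    rw [zc, D.w_t, D.neg_h]
  rcases D.cases hg with ⟨i, j, rfl⟩ | ⟨i, j, rfl⟩ | ⟨i, j, rfl⟩ | ⟨i, j, rfl⟩
  exacts [ht i j, (ht i j).mul_right hs, (ht i j).mul_right hw, (ht i j).mul_right (hs.mul_right hw)]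

theorem el_ne {i j k l : ZMod (4 * d)} : D.t i j ≠ D.t k l * D.s := fun h => D.el_ts_ne h.symm

theorem el_ts_tsw {i j k l : ZMod (4 * d)} : D.t i j * D.s ≠ D.t k l * (D.s * D.w) := fun h => by
  have := D.el_injective (a₁ := ((i, j), (1, 0))) (a₂ := ((k, l), (1, 1)))
    (by simp [Shape.el, h])
  simp at this

theorem tw_sq (i j : ZMod (4 * d)) : D.t i j * D.w * (D.t i j * D.w) = 1 := by
  simp only [mul_assoc, D.w_t_assoc, D.w_sq, mul_one, D.t_mul, add_neg_cancel, D.t_zero]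

theorem tsw_sq (i j : ZMod (4 * d)) :
    D.t i j * (D.s * D.w) * (D.t i j * (D.s * D.w)) = D.t (i - j) (j - i) := by
  simp only [mul_assoc, D.w_t_assoc, D.s_t_assoc, D.ws_assoc, D.w_sq, D.s_sq, mul_one, D.t_mul]
  rw [sub_eq_add_neg, sub_eq_add_neg]

/-- The two quaternion subgroups commute. -/
theorem quat_comm {x y : G} (hx : x ∈ quat D) (hy : y ∈ quat (swap D)) : Commute x y := by
  show x * y = y * x
  rcases hx with ⟨k, rfl⟩ | ⟨k, rfl⟩ <;> rcases hy with ⟨l, rfl⟩ | ⟨l, rfl⟩ <;>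
    simp only [swap_t, swap_s, swap_h, neg_neg]
  · rw [D.t_mul, D.t_mul, add_comm k, add_comm (-k)]
  · rw [D.t_t_assoc, mul_assoc, D.sw_mul_t, D.t_t_assoc, neg_neg, add_comm k, add_comm (-k)]
  · rw [ts_mul_t, t_mul_ts, add_comm l, add_comm l]
  · rw [mul_assoc, D.s_t_assoc, D.s_s_assoc, D.t_t_assoc, mul_assoc (D.t (D.h + l) l),
      ← mul_assoc (D.s * D.w), D.sw_mul_t, mul_assoc (D.t (- -k) _), mul_assoc D.s, D.sw,
      ← mul_assoc D.s, D.s_sq, one_mul, D.t_t_assoc, neg_neg]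
    congr 2
    · ring
    · rw [show l + -(D.h + k) = -D.h + (l - k) by ring, D.neg_h]
      ring

/-- Roots of the central involution in the Sylow subgroup. -/
theorem root_mem {g : G} (hg : g ∈ P) (hgg : g * g = zc D) : g ∈ quat D ∨ g ∈ quat (swap D) := by
  rcases D.cases hg with ⟨i, j, rfl⟩ | ⟨i, j, rfl⟩ | ⟨i, j, rfl⟩ | ⟨i, j, rfl⟩
  · rw [D.t_mul] at hgg
    obtain ⟨h1, h2⟩ := D.t_inj hgg
    have hij : (i - j) + (i - j) = 0 := by rw [show (i - j) + (i - j) = i + i - (j + j) by ring, h1, h2, sub_self]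
    rcases D.two_cases hij with h | h
    · refine Or.inr (Or.inl ⟨i, ?_⟩)
      rw [swap_t, neg_neg, sub_eq_zero.1 h]
    · refine Or.inl (Or.inl ⟨i, ?_⟩)
      congr 1
      have : j = i - D.h := by rw [← h]; ring
      rw [this, ← h1]
      ring
  · rw [ts_mul_ts] at hgg
    refine Or.inl (Or.inr ⟨-j, ?_⟩)
    rw [neg_neg, ← (D.t_inj hgg).1, add_neg_cancel_right]
  · rw [tw_sq] at hgg
    exact absurd hgg.symm (zc_ne D)
  · rw [tsw_sq] at hgg
    refine Or.inr (Or.inr ⟨j, ?_⟩)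
    rw [swap_t, swap_s, swap_h, neg_neg, ← (D.t_inj hgg).1, sub_add_cancel]

theorem ts_sq (k : ZMod (4 * d)) :
    D.t (D.h + k) (-k) * D.s * (D.t (D.h + k) (-k) * D.s) = zc D := by
  rw [ts_mul_ts, zc]
  congr 1 <;> ring

theorem quat_sq_one {g : G} (hg : g ∈ quat D) (hgg : g * g = 1) : g = 1 ∨ g = zc D := by
  rcases hg with ⟨k, rfl⟩ | ⟨k, rfl⟩
  · rw [D.t_mul, D.t_eq_one_iff] at hgg
    rcases D.two_cases hgg.1 with rfl | rfl
    · exact Or.inl (by rw [neg_zero, D.t_zero])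
    · exact Or.inr (by rw [zc, D.neg_h])
  · rw [ts_sq] at hgg
    exact absurd hgg (zc_ne D)

theorem quat_inf {g : G} (h1 : g ∈ quat D) (h2 : g ∈ quat (swap D)) : g = 1 ∨ g = zc D := by
  refine quat_sq_one D h1 ?_
  rcases h1 with ⟨k, rfl⟩ | ⟨k, rfl⟩ <;> rcases h2 with ⟨l, hl⟩ | ⟨l, hl⟩ <;>
    simp only [swap_t, swap_s, swap_h, neg_neg] at hl
  · obtain ⟨e1, e2⟩ := D.t_inj hl
    have : k + k = 0 := by
      calc k + k = k + l := by rw [← e1]
        _ = 0 := by rw [← e2, add_neg_cancel]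
    rw [D.t_mul, show -k + -k = -(k + k) by ring, this, neg_zero, D.t_zero]
  · exact absurd hl.symm D.el_tsw_ne
  · exact absurd hl.symm (el_ne D)
  · exact absurd hl (el_ts_tsw D)

/-- The quaternion subgroup is the centraliser of the other one. -/
theorem mem_quat_of_comm {g : G} (hg : g ∈ P) (h : ∀ y ∈ quat (swap D), Commute g y) : g ∈ quat D := by
  have h1 : Commute g (D.t 1 1) := by
    have := h _ (t_mem_quat (swap D) 1)
    simpa using this
  have h2 : Commute g (D.t D.h 0 * (D.s * D.w)) := by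
    have := h _ (ts_mem_quat (swap D) 0)
    simpa [swap_h, swap_s] using this
  have hne : ∀ x : ZMod (4 * d), (1 : ZMod (4 * d)) + x ≠ x + -1 := fun x e => by
    have h3 : ((2 : ℕ) : ZMod (4 * d)) = 0 := by
      push_cast
      linear_combination e
    rw [ZMod.natCast_eq_zero_iff] at h3
    have := Nat.le_of_dvd (by norm_num) h3
    have := D.d_pos
    omega
  rcases D.cases hg with ⟨i, j, rfl⟩ | ⟨i, j, rfl⟩ | ⟨i, j, rfl⟩ | ⟨i, j, rfl⟩
  · have h3 := h2.eq
    rw [D.t_t_assoc, mul_assoc (D.t D.h 0), D.sw_mul_t, D.t_t_assoc] at h3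
    refine Or.inl ⟨i, ?_⟩
    congr 1
    have := (D.t_inj (mul_right_cancel h3)).1
    linear_combination this
  · have h3 := h2.eq
    rw [mul_assoc, D.s_t_assoc, D.s_s_assoc, D.t_t_assoc, mul_assoc (D.t D.h 0), ← mul_assoc (D.s * D.w),
      D.sw_mul_t, mul_assoc (D.t (-j) _), mul_assoc D.s, D.sw, ← mul_assoc D.s, D.s_sq, one_mul,
      D.t_t_assoc] at h3
    refine Or.inr ⟨-j, ?_⟩
    rw [neg_neg]
    congr 2
    have := (D.t_inj (mul_right_cancel h3)).1
    linear_combination this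
  · have h3 := h1.eq
    rw [mul_assoc, D.w_t, D.t_t_assoc, D.t_t_assoc] at h3
    exact absurd (((D.t_inj (mul_right_cancel h3)).1).trans (add_comm _ _)).symm
      (fun e => hne i (by linear_combination e))
  · have h3 := h1.eq
    rw [mul_assoc, D.sw_mul_t, D.t_t_assoc, D.t_t_assoc] at h3
    exact absurd (((D.t_inj (mul_right_cancel h3)).1).trans (add_comm _ _)).symm
      (fun e => hne i (by linear_combination e))

/-- The Sylow subgroup normalises the quaternion subgroup. -/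
theorem quat_conj {g : G} (hg : g ∈ P) {q : G} (hq : q ∈ quat D) : g * q * g⁻¹ ∈ quat D := by
  have ht : ∀ i j, ∀ q ∈ quat D, D.t i j * q * (D.t i j)⁻¹ ∈ quat D := by
    rintro i j q (⟨k, rfl⟩ | ⟨k, rfl⟩)
    · rw [D.t_inv, D.t_mul, D.t_mul]
      refine Or.inl ⟨k, ?_⟩
      congr 1 <;> ring
    · rw [D.conj_t, D.s_t, D.t_t_assoc]
      refine Or.inr ⟨k + i - j, ?_⟩
      congr 2 <;> ring
  have hs : ∀ q ∈ quat D, D.s * q * D.s⁻¹ ∈ quat D := by
    rw [inv_eq_of_mul_eq_one_right D.s_sq]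
    rintro q (⟨k, rfl⟩ | ⟨k, rfl⟩)
    · rw [D.s_t, mul_assoc, D.s_sq, mul_one]
      exact Or.inl ⟨-k, by rw [neg_neg]⟩
    · rw [D.s_t_assoc, D.s_sq, mul_one]
      refine Or.inr ⟨D.h - k, ?_⟩
      congr 2
      · rw [show D.h + (D.h - k) = D.h + D.h + -k by ring, D.h_add_h, zero_add]
      · rw [show -(D.h - k) = -D.h + k by ring, D.neg_h]
  have hw : ∀ q ∈ quat D, D.w * q * D.w⁻¹ ∈ quat D := by
    rw [inv_eq_of_mul_eq_one_right D.w_sq]
    rintro q (⟨k, rfl⟩ | ⟨k, rfl⟩)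
    · rw [D.w_t, mul_assoc, D.w_sq, mul_one]
      exact Or.inl ⟨-k, rfl⟩
    · rw [D.w_t_assoc, mul_assoc, mul_assoc, ← D.sw, ← mul_assoc D.w D.w, D.w_sq, one_mul]
      refine Or.inr ⟨-k, ?_⟩
      congr 2
      rw [neg_add, D.neg_h]
  have hm : ∀ a b : G, (∀ q ∈ quat D, a * q * a⁻¹ ∈ quat D) → (∀ q ∈ quat D, b * q * b⁻¹ ∈ quat D) →
      ∀ q ∈ quat D, a * b * q * (a * b)⁻¹ ∈ quat D := fun a b ha hb q hq => by
    have := ha _ (hb q hq)
    rwa [show a * (b * q * b⁻¹) * a⁻¹ = a * b * q * (a * b)⁻¹ by group] at this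
  rcases D.cases hg with ⟨i, j, rfl⟩ | ⟨i, j, rfl⟩ | ⟨i, j, rfl⟩ | ⟨i, j, rfl⟩
  exacts [ht i j q hq, hm _ _ (ht i j) hs q hq, hm _ _ (ht i j) hw q hq,
    hm _ _ (ht i j) (hm _ _ hs hw) q hq]

theorem quat_normalizer : P ≤ normalizer (quat D : Set G) := fun g hg =>
  mem_normalizer_iff.2 fun q => ⟨quat_conj D hg, fun h => by
    have := quat_conj D (inv_mem hg) h
    rwa [show g⁻¹ * (g * q * g⁻¹) * g⁻¹⁻¹ = q by group] at this⟩

/-- The quaternion subgroup is generated by roots of the central involution. -/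
theorem quat_le_closure : quat D ≤ closure {g : G | g ∈ quat D ∧ g * g = zc D} := by
  have hx : ∀ k, D.t (D.h + k) (-k) * D.s ∈ closure {g : G | g ∈ quat D ∧ g * g = zc D} := fun k =>
    subset_closure ⟨ts_mem_quat D k, ts_sq D k⟩
  rintro g (⟨k, rfl⟩ | ⟨k, rfl⟩)
  · have := mul_mem (hx k) (inv_mem (hx 0))
    rwa [add_zero, neg_zero, mul_inv_rev, D.t_inv, inv_eq_of_mul_eq_one_right D.s_sq, neg_zero,
      mul_assoc, D.s_s_assoc, D.t_mul, add_zero, D.neg_h, show D.h + k + D.h = D.h + (D.h + k) by ring,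
      h_cancel] at this
  · exact hx k

/-- A root generating `A₁`-type elements: `t(d, -d)`. -/
def a₁ : G := D.t d (-d)

theorem a₁_mem : a₁ D ∈ quat D := t_mem_quat D d

theorem a₁_sq : a₁ D * a₁ D = zc D := by
  rw [a₁, D.t_mul, dd_eq_h D, zc]
  congr 1
  rw [← neg_add, dd_eq_h D, D.neg_h]

/-- The roots of the form `t(k, -k)` are `a₁` and its inverse. -/
theorem root_t {k : ZMod (4 * d)} (h : D.t k (-k) * D.t k (-k) = zc D) :
    D.t k (-k) = a₁ D ∨ D.t k (-k) = (a₁ D)⁻¹ := by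
  rw [D.t_mul] at h
  have h1 := (D.t_inj h).1
  have h2 : (k - d) + (k - d) = 0 := by
    rw [show (k - d) + (k - d) = (k + k) - ((d : ZMod (4 * d)) + d) by ring, h1, dd_eq_h D, sub_self]
  rcases D.two_cases h2 with e | e
  · exact Or.inl (by rw [a₁, sub_eq_zero.1 e])
  · refine Or.inr ?_
    have e2 : k = -(d : ZMod (4 * d)) := by
      have h3 : (d : ZMod (4 * d)) + d + (D.h) = 0 := by rw [dd_eq_h D, D.h_add_h]
      linear_combination e + h3
    rw [a₁, D.t_inv, e2]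

/-- The roots outside the cyclic part are conjugate under the Sylow subgroup. -/
theorem ts_conj (k : ZMod (4 * d)) :
    D.t k 0 * (D.t (D.h + 0) (-0) * D.s) * (D.t k 0)⁻¹ = D.t (D.h + k) (-k) * D.s := by
  rw [D.conj_t, D.s_t, D.t_t_assoc]
  congr 2 <;> ring

theorem center_sylow {g : G} (hg : g ∈ P) (h : ∀ x ∈ P, Commute g x) : g = 1 ∨ g = zc D :=
  quat_inf D (mem_quat_of_comm D hg fun y hy => h y (quat_le _ hy))
    (mem_quat_of_comm (swap D) hg fun y hy => h y (quat_le _ hy))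

/-- `s` is a product of roots in the two quaternion subgroups. -/
theorem s_eq : D.t (D.h + d) (-d) * D.s * D.t d d = D.s := by
  rw [ts_mul_t, neg_add_cancel, add_assoc, dd_eq_h D, D.h_add_h, D.t_zero, one_mul]

end CfsgLib.GTwoCent
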