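import Cfsg.Agent.GTwoCent.Coord
import Mathlib.GroupTheory.Sylow

/-!
# Fully centralised elements and the separation of the two quaternion subgroups

With the central involution of the shape central in the whole group, no element maps one quaternion
subgroup into the other, and a root in one of them is never conjugate to a root in the other.
-/

set_option autoImplicit false
set_option linter.unusedSectionVars false
set_option linter.style.haveILetI false

namespace CfsgLib.GTwoCent

open Subgroup CfsgLib.GTwoFusion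

universe u

variable {G : Type u} [Group G] [Finite G]

/-- Every 2-subgroup centralising `y` is carried into the Sylow subgroup by an element centralising
`y`. -/
def Full (P : Sylow 2 G) (y : G) : Prop :=
  ∀ U : Subgroup G, IsPGroup 2 U → (∀ u ∈ U, Commute u y) →
    ∃ c : G, Commute c y ∧ ∀ u ∈ U, c * u * c⁻¹ ∈ (P : Subgroup G)

/-- A two-subgroup is carried into the Sylow subgroup. -/
theorem exists_conj_le (P : Sylow 2 G) {U : Subgroup G} (hU : IsPGroup 2 U) :
    ∃ c : G, ∀ u ∈ U, c * u * c⁻¹ ∈ (P : Subgroup G) := by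
  haveI : Fact (Nat.Prime 2) := ⟨Nat.prime_two⟩
  obtain ⟨Q, hQ⟩ := hU.exists_le_sylow
  obtain ⟨c, hc⟩ := MulAction.exists_smul_eq G Q P
  refine ⟨c, fun u hu => ?_⟩
  rw [← hc, Sylow.coe_subgroup_smul]
  exact ⟨u, hQ hu, rfl⟩

/-- Inside a subgroup containing the Sylow subgroup. -/
theorem exists_conj_le_of_le (P : Sylow 2 G) {N : Subgroup G} (hPN : (P : Subgroup G) ≤ N)
    {U : Subgroup G} (hU : IsPGroup 2 U) (hUN : U ≤ N) :
    ∃ n ∈ N, ∀ u ∈ U, n * u * n⁻¹ ∈ (P : Subgroup G) := by
  haveI : Fact (Nat.Prime 2) := ⟨Nat.prime_two⟩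
  obtain ⟨c, hc⟩ := exists_conj_le (P.subtype hPN)
    (U := U.subgroupOf N) (hU.comap_of_injective N.subtype N.subtype_injective)
  exact ⟨c, c.2, fun u hu => mem_subgroupOf.1 (hc ⟨u, hUN hu⟩ (mem_subgroupOf.2 hu))⟩

/-- Every element of the Sylow subgroup has a fully centralised conjugate in it. -/
theorem exists_full (P : Sylow 2 G) {e : G} (he : e ∈ (P : Subgroup G)) :
    ∃ h : G, h * e * h⁻¹ ∈ (P : Subgroup G) ∧ Full P (h * e * h⁻¹) ∧
      ∀ c ∈ (P : Subgroup G), Commute c e → h * c * h⁻¹ ∈ (P : Subgroup G) := by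
  haveI : Fact (Nat.Prime 2) := ⟨Nat.prime_two⟩
  set C := centralizer ({e} : Set G)
  have hp : IsPGroup 2 ((P : Subgroup G).subgroupOf C) :=
    P.isPGroup'.comap_of_injective C.subtype C.subtype_injective
  obtain ⟨U, hU⟩ := hp.exists_le_sylow
  obtain ⟨h, hh⟩ := exists_conj_le P (U.isPGroup'.map C.subtype)
  have hmem : ∀ c ∈ (P : Subgroup G), Commute c e → h * c * h⁻¹ ∈ (P : Subgroup G) := fun c hc hce =>
    hh c ⟨⟨c, mem_centralizer_singleton_iff.2 hce⟩, hU (mem_subgroupOf.2 hc), rfl⟩
  refine ⟨h, hmem e he (Commute.refl e), fun V hV hVy => ?_, hmem⟩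
  -- move `V` to the centraliser of `e`
  have hback : ∀ v ∈ V, h⁻¹ * v * h ∈ C := fun v hv => mem_centralizer_singleton_iff.2 (by
    have := (Commute.conj_iff h⁻¹).2 (hVy v hv)
    rwa [inv_inv, show h⁻¹ * (h * e * h⁻¹) * h = e by group] at this)
  set V' : Subgroup C := (V.map (MulAut.conj h⁻¹).toMonoidHom).subgroupOf C with hV'
  have hV'p : IsPGroup 2 V' := (hV.map _).comap_of_injective C.subtype C.subtype_injective
  obtain ⟨k, hk⟩ := exists_conj_le U hV'p
  refine ⟨h * k * h⁻¹, ?_, fun v hv => ?_⟩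
  · exact (Commute.conj_iff h).2 (mem_centralizer_singleton_iff.1 k.2)
  · have h1 := hk ⟨h⁻¹ * v * h, hback v hv⟩ (by
      rw [hV', mem_subgroupOf]
      exact ⟨v, hv, by simp⟩)
    have h2 := hh _ ⟨_, h1, rfl⟩
    simp only [Subgroup.coe_subtype, coe_mul, InvMemClass.coe_inv] at h2
    rwa [show h * k * h⁻¹ * v * (h * k * h⁻¹)⁻¹ = h * (k * (h⁻¹ * v * h) * (k : G)⁻¹) * h⁻¹ by group]

variable {P : Sylow 2 G} {d : ℕ} (D : Shape (P : Subgroup G) d)

/-- No element maps a quaternion subgroup into the other one. -/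
theorem no_swap (g : G) : ¬ ∀ q ∈ quat D, g * q * g⁻¹ ∈ quat (swap D) := by
  classical
  haveI : Fact (Nat.Prime 2) := ⟨Nat.prime_two⟩
  intro hg
  have hP1 : IsPGroup 2 (quat (swap D)) := P.isPGroup'.to_le (quat_le _)
  set N := normalizer (quat (swap D) : Set G) with hN
  have hcard : Nat.card (quat D) = Nat.card (quat (swap D)) := by
    refine le_antisymm ?_ ?_
    · exact Nat.card_le_card_of_injective (fun q : quat D => (⟨g * q * g⁻¹, hg q q.2⟩ : quat (swap D)))
        fun a b h => Subtype.ext (by simpa using congrArg Subtype.val h)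
    · have h1 : ∀ k : ZMod (4 * d), D.t k k ∈ quat (swap D) := fun k => Or.inl ⟨k, by simp⟩
      have hmem : ∀ y ∈ quat (swap D), (∃ k, y = D.t k k) ∨ ∃ k, y = D.t (D.h + k) k * (D.s * D.w) := by
        rintro y (⟨k, rfl⟩ | ⟨k, rfl⟩)
        · exact Or.inl ⟨k, by simp⟩
        · exact Or.inr ⟨k, by simp [swap_s, swap_h]⟩
      haveI : NeZero (4 * d) := ⟨by have := D.d_pos; omega⟩
      let f : ZMod (4 * d) × Bool → quat D := fun p =>
        if p.2 then ⟨_, t_mem_quat D p.1⟩ else ⟨_, ts_mem_quat D p.1⟩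
      let f' : quat (swap D) → ZMod (4 * d) × Bool := fun y =>
        if h : ∃ k, (y : G) = D.t k k then (h.choose, true)
        else (((hmem y y.2).resolve_left h).choose, false)
      have hf : Function.Injective f := by
        rintro ⟨k, b⟩ ⟨l, c⟩ h
        cases b <;> cases c <;> simp only [f, Bool.false_eq_true, if_false, if_true] at h
        · have := (D.t_inj (mul_right_cancel (congrArg Subtype.val h))).2
          rw [neg_injective this]
        · exact absurd (congrArg Subtype.val h) D.el_ts_ne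
        · exact absurd (congrArg Subtype.val h) (el_ne D)
        · rw [(D.t_inj (congrArg Subtype.val h)).1]
      have hf' : Function.Injective f' := by
        intro y y' h
        simp only [f'] at h
        split_ifs at h with a b b <;> simp only [Prod.mk.injEq, and_true, Bool.true_eq_false,
          Bool.false_eq_true, and_false] at h
        · exact Subtype.ext (by rw [a.choose_spec, h, ← b.choose_spec])
        · exact Subtype.ext (by
            rw [((hmem y y.2).resolve_left a).choose_spec, h,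
              ← ((hmem y' y'.2).resolve_left b).choose_spec])
      exact (Nat.card_le_card_of_injective f' hf').trans (Nat.card_le_card_of_injective f hf)
  have himg : (quat D).map (MulAut.conj g).toMonoidHom = quat (swap D) := by
    refine eq_of_le_of_card_ge ?_ (by rw [card_map_of_injective (MulAut.conj g).injective, hcard])
    rintro _ ⟨q, hq, rfl⟩
    exact hg q hq
  -- the image of the other subgroup
  set U := (quat (swap D)).map (MulAut.conj g).toMonoidHom with hU
  have hUN : U ≤ N := by
    rintro _ ⟨y, hy, rfl⟩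
    refine centralizer_le_normalizer _ (mem_centralizer_iff.2 fun w hw => ?_)
    obtain ⟨q, hq, rfl⟩ := himg.ge hw
    exact ((quat_comm D hq hy).map (MulAut.conj g)).eq
  obtain ⟨n, hnN, hn⟩ := exists_conj_le_of_le P (N := N) (quat_normalizer _) (hP1.map _) hUN
  set k := n * g with hk
  have hk1 : ∀ q ∈ quat D, k * q * k⁻¹ ∈ quat (swap D) := fun q hq => by
    rw [show k * q * k⁻¹ = n * (g * q * g⁻¹) * n⁻¹ by rw [hk]; group]
    exact (mem_normalizer_iff.1 hnN _).1 (hg q hq)
  have hk2 : ∀ y ∈ quat (swap D), k * y * k⁻¹ ∈ quat D := fun y hy => by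
    rw [show k * y * k⁻¹ = n * (g * y * g⁻¹) * n⁻¹ by rw [hk]; group]
    refine mem_quat_of_comm D (hn _ ⟨y, hy, rfl⟩) fun w hw => ?_
    have hw' : n⁻¹ * w * n ∈ quat (swap D) := by
      have := (mem_normalizer_iff.1 (inv_mem hnN) w).1 hw
      rwa [inv_inv] at this
    obtain ⟨q, hq, hq'⟩ := himg.ge hw'
    have h1 := ((quat_comm D hq hy).map (MulAut.conj g)).symm.map (MulAut.conj n)
    rw [show (MulAut.conj g) q = n⁻¹ * w * n from hq'] at h1
    simpa [mul_assoc] using h1
  set M := normalizer (quat D : Set G) ⊓ N with hM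
  have hkM : k ∉ M := fun h => by
    have h2 : D.t (D.h + 0) (-0) * D.s ∈ quat D := ts_mem_quat D 0
    have h3 := (mem_normalizer_iff.1 (mem_inf.1 h).1 _).1 h2
    rcases quat_inf D h3 (hk1 _ h2) with e | e
    · rw [conj_eq_one_iff] at e
      have := ts_sq D 0
      rw [e, one_mul] at this
      exact zc_ne D this.symm
    · have := ts_sq D 0
      apply zc_ne D
      have e2 : (k * (D.t (D.h + 0) (-0) * D.s) * k⁻¹) * (k * (D.t (D.h + 0) (-0) * D.s) * k⁻¹) = 1 := by
        rw [e, zc_sq]
      rw [show (k * (D.t (D.h + 0) (-0) * D.s) * k⁻¹) * (k * (D.t (D.h + 0) (-0) * D.s) * k⁻¹) =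
        k * ((D.t (D.h + 0) (-0) * D.s) * (D.t (D.h + 0) (-0) * D.s)) * k⁻¹ by group, this,
        conj_eq_one_iff] at e2
      exact e2
  have hmap : ∀ A B : Subgroup G, Nat.card A = Nat.card B → (∀ a ∈ A, k * a * k⁻¹ ∈ B) →
      A.map (MulAut.conj k).toMonoidHom = B := fun A B hAB hle => by
    refine eq_of_le_of_card_ge ?_ (by rw [card_map_of_injective (MulAut.conj k).injective, hAB])
    rintro _ ⟨a, ha, rfl⟩
    exact hle a ha
  have hm1 := hmap _ _ hcard hk1
  have hm2 := hmap _ _ hcard.symm hk2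
  have hk2M : k * k ∈ M := by
    have h2 : ∀ A B : Subgroup G, A.map (MulAut.conj k).toMonoidHom = B →
        B.map (MulAut.conj k).toMonoidHom = A → k * k ∈ normalizer (A : Set G) := fun A B e1 e2 => by
      refine mem_normalizer_iff_map_conj_eq.2 ?_
      conv_rhs => rw [← e2, ← e1]
      rw [map_map, map_mul]
      rfl
    exact mem_inf.2 ⟨h2 _ _ hm1 hm2, h2 _ _ hm2 hm1⟩
  have hkn : k ∈ normalizer (M : Set G) := by
    refine mem_normalizer_iff_map_conj_eq.2 ?_
    show M.map (MulAut.conj k).toMonoidHom = M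
    rw [hM, hN, map_inf _ _ (MulAut.conj k).toMonoidHom (MulAut.conj k).injective,
      Subgroup.map_equiv_normalizer_eq, Subgroup.map_equiv_normalizer_eq, hm1, hm2, inf_comm]
  set X := normalizer (M : Set G)
  haveI : (M.subgroupOf X).Normal := normal_subgroupOf_of_le_normalizer le_rfl
  have hord : orderOf (QuotientGroup.mk' (M.subgroupOf X) ⟨k, hkn⟩) = 2 := by
    refine orderOf_eq_prime ?_ fun h => ?_
    · rw [← map_pow]
      exact (QuotientGroup.eq_one_iff _).2 (mem_subgroupOf.2 (by rw [sq]; exact hk2M))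
    · exact hkM (mem_subgroupOf.1 ((QuotientGroup.eq_one_iff _).1 h))
  have h2 : 2 ∣ (M.subgroupOf X).index := by
    rw [index_eq_card, ← hord]
    exact _root_.orderOf_dvd_natCard _
  have hPM : (P : Subgroup G) ≤ M := le_inf (quat_normalizer D) (quat_normalizer _)
  have h3 : 2 ∣ (P : Subgroup G).index := by
    rw [← relIndex_mul_index hPM]
    refine Dvd.dvd.mul_left ?_ _
    rw [← relIndex_mul_index (le_normalizer (H := M))]
    exact Dvd.dvd.mul_right h2 _
  exact P.not_dvd_index h3

/-- Commuting roots in a quaternion subgroup are equal or inverse. -/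
theorem root_comm {r y : G} (hr : r ∈ quat D) (hrr : r * r = zc D) (hy : y ∈ quat D)
    (hyy : y * y = zc D) (h : Commute r y) : r = y ∨ r = y⁻¹ := by
  have h1 : r * y * (r * y) = 1 := by rw [h.symm.mul_mul_mul_comm r y, hrr, hyy, zc_sq]
  rcases quat_sq_one D (mul_mem hr hy) h1 with e | e
  · exact Or.inr (eq_inv_of_mul_eq_one_left e)
  · exact Or.inl (mul_right_cancel (b := y) (e.trans hyy.symm))

theorem mem_quat_swap_swap {g : G} : g ∈ quat (swap (swap D)) ↔ g ∈ quat D := by
  show IsQ (swap (swap D)) g ↔ IsQ D g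
  simp only [IsQ, swap_t, swap_s, swap_h, swap_w, neg_neg, mul_assoc, D.w_sq, mul_one]

/-- A root sent to the other subgroup by an element respecting centralisers sends that subgroup back. -/
theorem key {e h : G} (hz : ∀ x : G, Commute x (zc D)) (he : e ∈ quat D) (hee : e * e = zc D)
    (hh : h * e * h⁻¹ ∈ quat (swap D))
    (hmem : ∀ c ∈ quat (swap D), h * c * h⁻¹ ∈ (P : Subgroup G)) :
    ∀ q ∈ quat (swap D), h * q * h⁻¹ ∈ quat D := by
  have hroot : ∀ r : G, r * r = zc D → h * r * h⁻¹ * (h * r * h⁻¹) = zc D := fun r hr => by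
    rw [show h * r * h⁻¹ * (h * r * h⁻¹) = h * (r * r) * h⁻¹ by group, hr, (hz h).eq,
      mul_inv_cancel_right]
  intro q hq
  have hle : quat (swap D) ≤ (quat D).comap (MulAut.conj h).toMonoidHom := by
    refine (quat_le_closure (swap D)).trans ((closure_le _).2 ?_)
    rintro r ⟨hr, hrr⟩
    rw [swap_zc] at hrr
    show h * r * h⁻¹ ∈ quat D
    rcases root_mem D (hmem r hr) (hroot r hrr) with h2 | h2
    · exact h2
    exfalso
    have hc : Commute (h * r * h⁻¹) (h * e * h⁻¹) := ((quat_comm D he hr).symm.map (MulAut.conj h))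
    have hre : r ∈ quat D := by
      rcases root_comm (swap D) h2 (by rw [swap_zc]; exact hroot r hrr) hh
        (by rw [swap_zc]; exact hroot e hee) hc with e1 | e1
      · rw [show r = e from mul_left_cancel (mul_right_cancel e1)]
        exact he
      · rw [show r = e⁻¹ from (MulAut.conj h).injective (by rw [map_inv]; exact e1)]
        exact inv_mem he
    rcases quat_inf D hre hr with e1 | e1 <;> rw [e1] at hrr
    · rw [one_mul] at hrr
      exact zc_ne D hrr.symm
    · rw [zc_sq] at hrr
      exact zc_ne D hrr.symm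
  exact hle hq

/-- **Roots in different quaternion subgroups are not conjugate.** -/
theorem root_not_conj {e g : G} (he : e ∈ quat D) (hee : e * e = zc D) (hz : ∀ x : G, Commute x (zc D))
    (hge : g * e * g⁻¹ ∈ quat (swap D)) : False := by
  have hroot : ∀ x r : G, r * r = zc D → x * r * x⁻¹ * (x * r * x⁻¹) = zc D := fun x r hr => by
    rw [show x * r * x⁻¹ * (x * r * x⁻¹) = x * (r * r) * x⁻¹ by group, hr, (hz x).eq,
      mul_inv_cancel_right]
  obtain ⟨h, hy, hfull, hmem⟩ := exists_full P (quat_le D he)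
  rcases root_mem D hy (hroot h e hee) with h2 | h2
  · set f := g * e * g⁻¹
    set k := h * g⁻¹ with hk
    have hkf : k * f * k⁻¹ = h * e * h⁻¹ := by rw [hk]; simp only [f]; group
    obtain ⟨c, hcy, hc⟩ := hfull ((quat D).map (MulAut.conj k).toMonoidHom)
      ((P.isPGroup'.to_le (quat_le D)).map _) (by
        rintro _ ⟨q, hq, rfl⟩
        rw [← hkf]
        exact (quat_comm D hq hge).map (MulAut.conj k))
    have he' : c * k * f * (c * k)⁻¹ = h * e * h⁻¹ := by
      rw [show c * k * f * (c * k)⁻¹ = c * (k * f * k⁻¹) * c⁻¹ by group, hkf, hcy.eq,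
        mul_inv_cancel_right]
    have h3 := key (swap D) (h := c * k) (by rw [swap_zc]; exact hz) hge
      (by rw [swap_zc]; exact hroot g e hee) (by rw [mem_quat_swap_swap, he']; exact h2) (fun q hq => by
        rw [mem_quat_swap_swap] at hq
        rw [show c * k * q * (c * k)⁻¹ = c * (k * q * k⁻¹) * c⁻¹ by group]
        exact hc _ ⟨q, hq, rfl⟩)
    exact no_swap D (c * k) fun q hq => h3 q ((mem_quat_swap_swap D).2 hq)
  · have h3 := key D hz he hee h2 fun q hq => hmem q (quat_le _ hq) (quat_comm D he hq).symm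
    exact no_swap (swap D) h fun q hq => (mem_quat_swap_swap D).2 (h3 q hq)

end CfsgLib.GTwoCent
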