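import Cfsg.Agent.GTwoCent.Coord
import Cfsg.Agent.GTwoFusion.Fusion

/-!
# One class of involutions: `s` is conjugate to `a` inside the centraliser of `z`

Also the transport of a shape along a homomorphism which is injective on the Sylow subgroup.
-/

set_option autoImplicit false
set_option linter.unusedSectionVars false
set_option linter.style.haveILetI false

namespace CfsgLib.GTwoCent

open Subgroup CfsgLib.GTwoFusion

universe u v

/-- The image of a shape. -/
def mapShape {G : Type u} {K : Type v} [Group G] [Group K] {P : Subgroup G} {d : ℕ} (D : Shape P d)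
    (f : G →* K) (hinj : ∀ x ∈ P, f x = 1 → x = 1) {P' : Subgroup K} (hP' : P' = P.map f) : Shape P' d where
  t i j := f (D.t i j)
  s := f D.s
  w := f D.w
  d_pos := D.d_pos
  t_mul i j k l := by rw [← map_mul, D.t_mul]
  t_mem i j := by rw [hP']; exact mem_map_of_mem f (D.t_mem i j)
  s_mem := by rw [hP']; exact mem_map_of_mem f D.s_mem
  w_mem := by rw [hP']; exact mem_map_of_mem f D.w_mem
  s_sq := by rw [← map_mul, D.s_sq, map_one]
  w_sq := by rw [← map_mul, D.w_sq, map_one]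
  sw := by rw [← map_mul, D.sw, map_mul]
  s_t i j := by rw [← map_mul, D.s_t, map_mul]
  w_t i j := by rw [← map_mul, D.w_t, map_mul]
  cover g hg := by
    rw [hP'] at hg
    obtain ⟨x, hx, rfl⟩ := hg
    obtain ⟨i, j, a, b, e⟩ := D.cover x hx
    exact ⟨i, j, a, b, by rw [e, map_mul, map_mul, map_pow, map_pow]⟩
  card := by
    rw [hP', ← D.card]
    refine (Nat.card_congr (Equiv.ofBijective (fun x : P => (⟨f x, mem_map_of_mem f x.2⟩ : P.map f))
      ⟨fun x y h => ?_, ?_⟩)).symm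
    · refine Subtype.ext (inv_mul_eq_one.1 (hinj _ (mul_mem (inv_mem x.2) y.2) ?_))
      rw [map_mul, map_inv, show f x = f y from congrArg Subtype.val h, inv_mul_cancel]
    · rintro ⟨_, x, hx, rfl⟩
      exact ⟨⟨x, hx⟩, rfl⟩

/-- A shape inside a subgroup. -/
def restrictShape {G : Type u} [Group G] {P : Subgroup G} {d : ℕ} (D : Shape P d) (C : Subgroup G)
    (hPC : P ≤ C) {P' : Subgroup C} (hP' : P' = P.subgroupOf C) : Shape P' d where
  t i j := ⟨D.t i j, hPC (D.t_mem i j)⟩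
  s := ⟨D.s, hPC D.s_mem⟩
  w := ⟨D.w, hPC D.w_mem⟩
  d_pos := D.d_pos
  t_mul i j k l := Subtype.ext (D.t_mul i j k l)
  t_mem i j := by rw [hP']; exact D.t_mem i j
  s_mem := by rw [hP']; exact D.s_mem
  w_mem := by rw [hP']; exact D.w_mem
  s_sq := Subtype.ext D.s_sq
  w_sq := Subtype.ext D.w_sq
  sw := Subtype.ext D.sw
  s_t i j := Subtype.ext (D.s_t i j)
  w_t i j := Subtype.ext (D.w_t i j)
  cover g hg := by
    rw [hP'] at hg
    obtain ⟨i, j, a, b, e⟩ := D.cover g hg
    exact ⟨i, j, a, b, Subtype.ext (by simpa using e)⟩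
  card := by rw [hP', Nat.card_congr (subgroupOfEquivOfLe hPC).toEquiv, D.card]

variable {G : Type u} [Group G] [Finite G] {P : Sylow 2 G} {d : ℕ} (D : Shape (P : Subgroup G) d)

/-- An involution commuting with a subgroup of index at most two of the Sylow subgroup. -/
theorem invol_index_two {y : G} (hy : y ∈ (P : Subgroup G)) (hy1 : y ≠ 1) (hyy : y * y = 1)
    (hyz : y ≠ zc D) {W : Subgroup G} (hW : W ≤ (P : Subgroup G)) (hidx : W.relIndex (P : Subgroup G) ≤ 2)
    (hc : ∀ x ∈ W, Commute x y) : y = D.t D.h 0 ∨ y = D.t 0 D.h := by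
  have h2ne : (1 : ZMod (4 * d)) + 1 ≠ 0 := fun e => by
    have h3 : ((2 : ℕ) : ZMod (4 * d)) = 0 := by push_cast; linear_combination e
    rw [ZMod.natCast_eq_zero_iff] at h3
    have := Nat.le_of_dvd (by norm_num) h3
    have := D.d_pos
    omega
  have hmul : ∀ a b : G, a ∈ (P : Subgroup G) → b ∈ (P : Subgroup G) → a ∉ W → b ∉ W → a * b ∈ W := by
    intro a b ha hb haW hbW
    set K := W.subgroupOf (P : Subgroup G)
    have h0 : K.index ≠ 0 := index_ne_zero_of_finite
    have hi : K.index = 1 ∨ K.index = 2 := by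
      have h1 : K.index ≤ 2 := hidx
      omega
    rcases hi with hi | hi
    · exact absurd (index_eq_one.1 hi ▸ mem_top (⟨a, ha⟩ : (P : Subgroup G)) : (⟨a, ha⟩ : (P : Subgroup G)) ∈ K)
        (fun h => haW (mem_subgroupOf.1 h))
    · exact mem_subgroupOf.1 ((mul_mem_iff_of_index_two hi (a := ⟨a, ha⟩) (b := ⟨b, hb⟩)).2
        ⟨fun h => absurd (mem_subgroupOf.1 h) haW, fun h => absurd (mem_subgroupOf.1 h) hbW⟩)
  have ht20 : Commute (D.t (1 + 1) 0) y := by
    by_cases h : D.t 1 0 ∈ W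
    · have := (hc _ h).mul_left (hc _ h)
      rwa [D.t_mul, add_zero] at this
    · have := hc _ (hmul _ _ (D.t_mem 1 0) (D.t_mem 1 0) h h)
      rwa [D.t_mul, add_zero] at this
  rcases D.cases hy with ⟨i, j, rfl⟩ | ⟨i, j, rfl⟩ | ⟨i, j, rfl⟩ | ⟨i, j, rfl⟩
  · rw [D.t_mul, D.t_eq_one_iff] at hyy
    rcases D.two_cases hyy.1 with rfl | rfl <;> rcases D.two_cases hyy.2 with rfl | rfl
    exacts [absurd D.t_zero hy1, Or.inr rfl, Or.inl rfl, absurd rfl hyz]
  · have e := ht20.eq
    rw [D.t_t_assoc, ts_mul_t] at e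
    exact absurd (by linear_combination (D.t_inj (mul_right_cancel e)).1) h2ne
  · exfalso
    obtain ⟨k, l, hkl, hne⟩ : ∃ k l : ZMod (4 * d), D.t k l ∈ W ∧ (k + k ≠ 0 ∨ l + l ≠ 0) := by
      by_cases h : D.t 1 0 ∈ W
      · exact ⟨1, 0, h, Or.inl h2ne⟩
      by_cases h' : D.t 0 1 ∈ W
      · exact ⟨0, 1, h', Or.inr h2ne⟩
      · refine ⟨1, 1, ?_, Or.inl h2ne⟩
        have := hmul _ _ (D.t_mem 1 0) (D.t_mem 0 1) h h'
        rwa [D.t_mul, add_zero, zero_add] at this
    have e := (hc _ hkl).eq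
    rw [D.t_t_assoc, mul_assoc, D.w_t, D.t_t_assoc] at e
    obtain ⟨e1, e2⟩ := D.t_inj (mul_right_cancel e)
    rcases hne with h | h
    · exact h (by linear_combination e1)
    · exact h (by linear_combination e2)
  · have e := ht20.eq
    rw [D.t_t_assoc, mul_assoc, D.sw_mul_t, D.t_t_assoc] at e
    exact absurd (by linear_combination (D.t_inj (mul_right_cancel e)).1) h2ne

/-- **`s` is conjugate to `a` in the centraliser of `z`.** -/
theorem s_isConj_a (hsz : IsConj D.s (zc D)) :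
    ∃ c ∈ centralizer ({zc D} : Set G), c * D.s * c⁻¹ = D.t D.h 0 := by
  haveI : Fact (Nat.Prime 2) := ⟨Nat.prime_two⟩
  obtain ⟨g, hgs, hgP⟩ := D.exists_move (show IsConj D.z D.s from hsz.symm)
  have hgs' : g * D.s * g⁻¹ = zc D := hgs
  set r := D.t (d : ZMod (4 * d)) d with hr
  have hrs : r * D.s = D.s * r := by rw [hr, D.s_t]
  have hrr : r * r = zc D := by rw [hr, D.t_mul, dd_eq_h D]; rfl
  have hrP := hgP r (D.t_mem _ _) hrs
  set z' := g * zc D * g⁻¹ with hz'
  have hz'r : z' = g * r * g⁻¹ * (g * r * g⁻¹) := by rw [hz', ← hrr]; group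
  have hz'2 : z' * z' = 1 := by
    rw [hz', show g * zc D * g⁻¹ * (g * zc D * g⁻¹) = g * (zc D * zc D) * g⁻¹ by group, zc_sq,
      mul_one, mul_inv_cancel]
  have hz'1 : z' ≠ 1 := fun h => zc_ne D (conj_eq_one_iff.1 h)
  have hz'z : z' ≠ zc D := fun h => by
    have e := mul_left_cancel (mul_right_cancel (h.trans hgs'.symm))
    exact D.el_ts_ne (i := 0) (j := 0) (k := D.h) (l := D.h) (by rw [D.t_zero, one_mul]; exact e.symm)
  obtain ⟨i, j, hij⟩ : ∃ i j, z' = D.t i j := by rw [hz'r]; exact D.sq_mem_t hrP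
  have hzA : z' = D.t D.h 0 ∨ z' = D.t 0 D.h := by
    rw [hij, D.t_mul, D.t_eq_one_iff] at hz'2
    rw [hij] at hz'1 hz'z ⊢
    rcases D.two_cases hz'2.1 with rfl | rfl <;> rcases D.two_cases hz'2.2 with rfl | rfl
    exacts [absurd D.t_zero hz'1, Or.inr rfl, Or.inl rfl, absurd rfl hz'z]
  -- a subgroup of index two centralising `z'`
  set W := (P : Subgroup G) ⊓ centralizer ({z'} : Set G) with hW
  have hWP : W ≤ (P : Subgroup G) := inf_le_left
  have hWidx : W.relIndex (P : Subgroup G) ≤ 2 := by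
    have hT : ∀ i j, D.t i j ∈ W := fun i' j' => mem_inf.2 ⟨D.t_mem _ _, mem_centralizer_singleton_iff.2 (by
      rw [hij, D.t_mul, D.t_mul, add_comm i', add_comm j'])⟩
    have hw : D.w ∈ W := mem_inf.2 ⟨D.w_mem, mem_centralizer_singleton_iff.2 (by
      rw [hij, D.w_t]
      rcases hzA with e | e <;> rw [hij] at e <;> obtain ⟨rfl, rfl⟩ := D.t_inj e <;>
        simp [D.neg_h])⟩
    set K := W.subgroupOf (P : Subgroup G)
    show K.index ≤ 2
    have hsurj : Function.Surjective (fun b : Fin 2 => QuotientGroup.mk (s := K)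
        ((⟨D.s, D.s_mem⟩ : (P : Subgroup G)) ^ (b : ℕ))) := by
      intro q
      induction q using QuotientGroup.induction_on with
      | _ x =>
        obtain ⟨i', j', a, b, e⟩ := D.cover x x.2
        refine ⟨a, (QuotientGroup.eq).2 ?_⟩
        rw [mem_subgroupOf]
        simp only [coe_mul, InvMemClass.coe_inv, SubgroupClass.coe_pow, e]
        rw [show (D.s ^ (a : ℕ))⁻¹ * (D.t i' j' * (D.s ^ (a : ℕ) * D.w ^ (b : ℕ))) =
          ((D.s ^ (a : ℕ))⁻¹ * D.t i' j' * D.s ^ (a : ℕ)) * D.w ^ (b : ℕ) by group]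
        refine mul_mem ?_ (pow_mem hw _)
        fin_cases a
        · simpa using hT i' j'
        · simp only [pow_one, Fin.mk_one, Fin.val_one]
          rw [inv_eq_of_mul_eq_one_right D.s_sq, D.s_t, mul_assoc, D.s_sq, mul_one]
          exact hT _ _
    rw [index_eq_card]
    exact (Nat.card_le_card_of_surjective _ hsurj).trans (by simp)
  -- pull it back into the centraliser of `s` and `z`
  set C := centralizer ({zc D} : Set G) with hC
  have hPC : (P : Subgroup G) ≤ C := fun x hx => mem_centralizer_singleton_iff.2 (zc_comm D hx).eq.symm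
  set U := W.map (MulAut.conj g⁻¹).toMonoidHom with hU
  have hUC : ∀ u ∈ U, u ∈ C ∧ Commute u D.s := by
    rintro _ ⟨x, hx, rfl⟩
    obtain ⟨hxP, hxc⟩ := mem_inf.1 hx
    have e1 : (MulAut.conj g⁻¹) z' = zc D := by simp [hz', mul_assoc]
    have e2 : (MulAut.conj g⁻¹) (zc D) = D.s := by rw [← hgs']; simp [mul_assoc]
    refine ⟨mem_centralizer_singleton_iff.2 ?_, ?_⟩
    · rw [← e1]
      have h0 : Commute x z' := mem_centralizer_singleton_iff.1 hxc
      exact (h0.map (MulAut.conj g⁻¹)).eq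
    · rw [← e2]
      exact (zc_comm D hxP).symm.map (MulAut.conj g⁻¹)
  have hzW : zc D ∈ W := mem_inf.2 ⟨zc_mem D, mem_centralizer_singleton_iff.2 (by
    rw [hij, zc, D.t_mul, D.t_mul, add_comm D.h, add_comm D.h])⟩
  have hsU : D.s ∈ U := ⟨zc D, hzW, by rw [← hgs']; simp [mul_assoc]⟩
  have hUp : IsPGroup 2 (U.subgroupOf C) :=
    ((P.isPGroup'.to_le hWP).map _).comap_of_injective C.subtype C.subtype_injective
  obtain ⟨V, hV⟩ := hUp.exists_le_sylow
  obtain ⟨c, hc⟩ := MulAction.exists_smul_eq C V (P.subtype hPC)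
  have hcP : ∀ u ∈ U, (c : G) * u * (c : G)⁻¹ ∈ (P : Subgroup G) := fun u hu => by
    have h1 : c * ⟨u, (hUC u hu).1⟩ * c⁻¹ ∈ (P.subtype hPC : Subgroup C) := by
      rw [← hc]
      exact ⟨_, hV (mem_subgroupOf.2 hu), rfl⟩
    exact mem_subgroupOf.1 h1
  set W' := U.map (MulAut.conj (c : G)).toMonoidHom with hW'
  have hW'P : W' ≤ (P : Subgroup G) := by
    rintro _ ⟨u, hu, rfl⟩
    exact hcP u hu
  have hW'idx : W'.relIndex (P : Subgroup G) ≤ 2 := by
    have h1 := (W.subgroupOf (P : Subgroup G)).card_mul_index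
    have h2 := (W'.subgroupOf (P : Subgroup G)).card_mul_index
    rw [Nat.card_congr (subgroupOfEquivOfLe hWP).toEquiv] at h1
    rw [Nat.card_congr (subgroupOfEquivOfLe hW'P).toEquiv, hW',
      card_map_of_injective (MulAut.conj (c : G)).injective, hU,
      card_map_of_injective (MulAut.conj g⁻¹).injective, ← h1] at h2
    exact (Nat.eq_of_mul_eq_mul_left Nat.card_pos h2).trans_le hWidx
  have hy1 : (c : G) * D.s * (c : G)⁻¹ ≠ 1 := fun h =>
    D.el_ts_ne (i := 0) (j := 0) (k := 0) (l := 0) (by rw [D.t_zero, one_mul, conj_eq_one_iff.1 h])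
  have hyz : (c : G) * D.s * (c : G)⁻¹ ≠ zc D := fun h => by
    have e : (c : G) * zc D * (c : G)⁻¹ = zc D := by
      rw [mem_centralizer_singleton_iff.1 c.2, mul_inv_cancel_right]
    have e2 := mul_left_cancel (mul_right_cancel (h.trans e.symm))
    exact D.el_ts_ne (i := 0) (j := 0) (k := D.h) (l := D.h) (by rw [D.t_zero, one_mul]; exact e2)
  rcases invol_index_two D (hcP _ hsU) hy1 (by
      rw [show (c : G) * D.s * (c : G)⁻¹ * ((c : G) * D.s * (c : G)⁻¹) = c * (D.s * D.s) * (c : G)⁻¹ by group,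
        D.s_sq, mul_one, mul_inv_cancel]) hyz hW'P hW'idx (by
      rintro _ ⟨u, hu, rfl⟩
      exact (hUC u hu).2.map (MulAut.conj (c : G))) with e | e
  · exact ⟨c, c.2, e⟩
  · refine ⟨D.s * c, mul_mem (hPC D.s_mem) c.2, ?_⟩
    rw [show D.s * c * D.s * (D.s * (c : G))⁻¹ = D.s * (c * D.s * (c : G)⁻¹) * D.s⁻¹ by group, e, D.s_t,
      mul_inv_cancel_right]

end CfsgLib.GTwoCent
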