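import Cfsg.Agent.GTwoCent.Assembly
import Cfsg.Agent.GTwoCent.Transport

/-!
# The centraliser of a central involution modulo its core
-/

set_option autoImplicit false
set_option linter.unusedSectionVars false
set_option linter.style.haveILetI false

namespace CfsgLib.GTwoCent

open Subgroup CfsgLib.GTwoFusion

universe u

/-- **The centraliser of a 2-central involution modulo its core**, with one class of involutions. -/
theorem centralizer_mod_core {G : Type u} [Group G] [Finite G] {S : Sylow 2 G} {d : ℕ}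
    (D : Shape (S : Subgroup G) d) (h1 : ∀ x y : G, orderOf x = 2 → orderOf y = 2 → IsConj x y)
    {t : G} (ht : t = zc D) :
    ∃ L₁ L₂ : Subgroup (↥(centralizer ({t} : Set G)) ⧸ Cfsg.oddCore ↥(centralizer ({t} : Set G))),
      L₁.Normal ∧ L₂.Normal ∧
      (∃ (F₁ : Type) (_ : Field F₁) (_ : Fintype F₁), Odd (Fintype.card F₁) ∧
        Nonempty (↥L₁ ≃* Matrix.SpecialLinearGroup (Fin 2) F₁)) ∧
      (∃ (F₂ : Type) (_ : Field F₂) (_ : Fintype F₂), Odd (Fintype.card F₂) ∧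
        Nonempty (↥L₂ ≃* Matrix.SpecialLinearGroup (Fin 2) F₂)) ∧
      ⁅L₁, L₂⁆ = ⊥ ∧ L₁ ⊔ L₂ = commutator _ := by
  subst ht
  haveI : Fact (Nat.Prime 2) := ⟨Nat.prime_two⟩
  set C := centralizer ({zc D} : Set G) with hC
  have hSC : (S : Subgroup G) ≤ C := fun x hx => mem_centralizer_singleton_iff.2 (zc_comm D hx).eq.symm
  have hord : ∀ D' : Shape (S : Subgroup G) d, orderOf D'.s = 2 := fun D' =>
    orderOf_eq_prime (by rw [sq, D'.s_sq]) fun h =>
      D'.el_ts_ne (i := 0) (j := 0) (k := 0) (l := 0) (by rw [D'.t_zero, one_mul, h])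
  obtain ⟨c, hcC, hc⟩ := s_isConj_a D (h1 _ _ (hord D) (orderOf_zc D))
  obtain ⟨c', hc'C, hc'⟩ := s_isConj_a (swap D) (h1 _ _ (hord _) (orderOf_zc _))
  rw [swap_zc] at hc'C
  set π := QuotientGroup.mk' (Cfsg.oddCore ↥C) with hπ
  have hinj : ∀ x ∈ (S.subtype hSC : Subgroup C), π x = 1 → x = 1 := by
    intro x hx h
    obtain ⟨k, hk⟩ := IsPGroup.iff_orderOf.1 (S.subtype hSC).isPGroup' ⟨x, hx⟩
    rw [Subgroup.orderOf_mk] at hk
    have h2 := DGroup.odd_orderOf (DGroup.odd_oddCore C) ((QuotientGroup.eq_one_iff _).1 h)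
    rw [hk] at h2
    rcases k with _ | k
    · exact orderOf_eq_one_iff.1 (hk.trans (pow_zero 2))
    · exact absurd h2 (by simp [pow_succ])
  let T := (S.subtype hSC).mapSurjective (f := π) (QuotientGroup.mk'_surjective _)
  let D₁ : Shape (S.subtype hSC : Subgroup C) d := restrictShape D C hSC rfl
  let D₂ : Shape (T : Subgroup (C ⧸ Cfsg.oddCore ↥C)) d := mapShape D₁ π hinj rfl
  refine components D₂ ?_ LocalB.oddCore_quotient ?_ ?_
  · intro x
    obtain ⟨x, rfl⟩ := QuotientGroup.mk'_surjective _ x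
    refine Commute.map (show Commute x ⟨D.t D.h D.h, hSC (D.t_mem _ _)⟩ from Subtype.ext ?_) π
    exact mem_centralizer_singleton_iff.1 x.2
  · refine MonoidHom.map_isConj π (isConj_iff.2 ⟨⟨c, hcC⟩, Subtype.ext ?_⟩)
    exact hc
  · show IsConj (π ⟨D.s, hSC D.s_mem⟩ * π ⟨D.w, hSC D.w_mem⟩) (π ⟨D.t D.h (-0), hSC (D.t_mem _ _)⟩)
    rw [← map_mul]
    exact MonoidHom.map_isConj π (isConj_iff.2 ⟨⟨c', hc'C⟩, Subtype.ext hc'⟩)

end CfsgLib.GTwoCent
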