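import Cfsg.Agent.GTwoCent.Full
import Cfsg.Agent.Criterion.TransferFull
import Mathlib.Data.Nat.Totient
import Mathlib.Data.ZMod.Units

/-!
# The centraliser of the root `a₁`

`W = T⟨sw⟩` is a Sylow 2-subgroup of the centraliser `H` of `a₁`. If `q ∈ A₁` and `y ∈ W` are conjugate
in `H`, with the same being true of their squares inside `A₁`, then `y ∈ A₁`: the squares agree because
the normaliser of `W` induces an odd group on the cyclic group `A₁`, and `y = q v` with an involution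
`v` is excluded by the transfer into `W / Q₂`.
-/

set_option autoImplicit false
set_option linter.unusedSectionVars false
set_option linter.style.haveILetI false

namespace CfsgLib.GTwoCent

open Subgroup CfsgLib.GTwoFusion

universe u

variable {G : Type u} [Group G] [Finite G] {P : Sylow 2 G} {d : ℕ} (D : Shape (P : Subgroup G) d)

local instance factTwoRootCent : Fact (Nat.Prime 2) := ⟨Nat.prime_two⟩

include D in
theorem four_d_pow : ∃ K, 0 < K ∧ 4 * d = 2 ^ K := by
  obtain ⟨k, hk⟩ := IsPGroup.iff_card.1 P.isPGroup'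
  rw [D.card] at hk
  obtain ⟨K, -, hK⟩ := (Nat.dvd_prime_pow Nat.prime_two).1
    (show 4 * d ∣ 2 ^ k from hk ▸ ⟨4 * (4 * d), by ring⟩)
  refine ⟨K, Nat.pos_of_ne_zero fun h => ?_, hK⟩
  rw [h] at hK
  omega

theorem a₁_pow (n : ℕ) (k : ZMod (4 * d)) : D.t k (-k) ^ n = D.t (n * k) (-(n * k)) := by
  induction n with
  | zero => rw [pow_zero, Nat.cast_zero, zero_mul, neg_zero, D.t_zero]
  | succ n ih =>
    rw [pow_succ, ih, D.t_mul, Nat.cast_succ]
    congr 1 <;> ring

include D in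
theorem dd_ne : (d : ZMod (4 * d)) ≠ -(d : ZMod (4 * d)) := fun e => D.h_ne (by
  rw [← dd_eq_h D]
  exact eq_neg_iff_add_eq_zero.1 e)

/-- The Sylow subgroup of the centraliser of `a₁` given by the shape. -/
def wSub : Subgroup G := (P : Subgroup G) ⊓ centralizer ({a₁ D} : Set G)

theorem mem_wSub {g : G} :
    g ∈ wSub D ↔ (∃ i j, g = D.t i j) ∨ ∃ i j, g = D.t i j * (D.s * D.w) := by
  rw [wSub, mem_inf, mem_centralizer_singleton_iff, a₁]
  constructor
  · rintro ⟨hP, hc⟩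
    rcases D.cases hP with ⟨i, j, rfl⟩ | ⟨i, j, rfl⟩ | ⟨i, j, rfl⟩ | ⟨i, j, rfl⟩
    · exact Or.inl ⟨i, j, rfl⟩
    · rw [ts_mul_t, D.t_t_assoc] at hc
      exact absurd (add_left_cancel ((D.t_inj (mul_right_cancel hc)).1.trans (add_comm _ _))).symm
        (dd_ne D)
    · rw [mul_assoc, D.w_t, D.t_t_assoc, D.t_t_assoc] at hc
      exact absurd (add_left_cancel ((D.t_inj (mul_right_cancel hc)).1.trans (add_comm _ _))).symm
        (dd_ne D)
    · exact Or.inr ⟨i, j, rfl⟩
  · rintro (⟨i, j, rfl⟩ | ⟨i, j, rfl⟩)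
    · exact ⟨D.t_mem _ _, by rw [D.t_mul, D.t_mul, add_comm i, add_comm j]⟩
    · refine ⟨mul_mem (D.t_mem _ _) (mul_mem D.s_mem D.w_mem), ?_⟩
      rw [mul_assoc, D.sw_mul_t, D.t_t_assoc, D.t_t_assoc, neg_neg, add_comm i, add_comm j]

theorem t_mem_wSub (i j : ZMod (4 * d)) : D.t i j ∈ wSub D := (mem_wSub D).2 (Or.inl ⟨i, j, rfl⟩)

theorem tsw_mem_wSub (i j : ZMod (4 * d)) : D.t i j * (D.s * D.w) ∈ wSub D :=
  (mem_wSub D).2 (Or.inr ⟨i, j, rfl⟩)

theorem wSub_center {g : G} (hg : g ∈ wSub D) (h : ∀ x ∈ wSub D, Commute g x) :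
    ∃ k, g = D.t k (-k) := by
  rcases (mem_wSub D).1 hg with ⟨i, j, rfl⟩ | ⟨i, j, rfl⟩
  · have h1 := (h _ (tsw_mem_wSub D 0 0)).eq
    rw [D.t_t_assoc, D.t_zero, one_mul, D.sw_mul_t, add_zero, add_zero] at h1
    refine ⟨i, ?_⟩
    congr 1
    linear_combination (D.t_inj (mul_right_cancel h1)).1
  · exfalso
    have h1 := (h _ (t_mem_wSub D 1 1)).eq
    rw [mul_assoc, D.sw_mul_t, D.t_t_assoc, D.t_t_assoc] at h1
    have h2 := (D.t_inj (mul_right_cancel h1)).1
    have h3 : ((2 : ℕ) : ZMod (4 * d)) = 0 := by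
      push_cast
      linear_combination -h2
    rw [ZMod.natCast_eq_zero_iff] at h3
    have := Nat.le_of_dvd (by norm_num) h3
    have := D.d_pos
    omega

theorem t_center_wSub (k : ZMod (4 * d)) {x : G} (hx : x ∈ wSub D) : Commute (D.t k (-k)) x := by
  rcases (mem_wSub D).1 hx with ⟨i, j, rfl⟩ | ⟨i, j, rfl⟩
  · show _ = _
    rw [D.t_mul, D.t_mul, add_comm k, add_comm (-k)]
  · show _ = _
    rw [D.t_t_assoc, mul_assoc, D.sw_mul_t, D.t_t_assoc, neg_neg, add_comm k, add_comm (-k)]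

theorem wSub_relIndex : (wSub D).relIndex (P : Subgroup G) = 2 := by
  have hs : D.s ∉ wSub D := fun h => by
    rcases (mem_wSub D).1 h with ⟨i, j, e⟩ | ⟨i, j, e⟩
    · exact D.el_ts_ne (i := 0) (j := 0) (k := i) (l := j) (by rw [D.t_zero, one_mul]; exact e)
    · exact el_ts_tsw D (i := 0) (j := 0) (k := i) (l := j) (by rw [D.t_zero, one_mul]; exact e)
  show ((wSub D).subgroupOf (P : Subgroup G)).index = 2
  rw [index_eq_two_iff]
  refine ⟨⟨D.s, D.s_mem⟩, fun b => ?_⟩
  simp only [mem_subgroupOf, Subgroup.coe_mul]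
  by_cases hb : (b : G) ∈ wSub D
  · exact Or.inr ⟨hb, fun h => hs (by simpa using mul_mem (inv_mem hb) h)⟩
  · refine Or.inl ⟨?_, hb⟩
    rcases D.cases b.2 with ⟨i, j, e⟩ | ⟨i, j, e⟩ | ⟨i, j, e⟩ | ⟨i, j, e⟩
    · exact absurd (e ▸ t_mem_wSub D i j) hb
    · rw [e, mul_assoc, D.s_sq, mul_one]
      exact t_mem_wSub D i j
    · rw [e, mul_assoc, D.sw]
      exact tsw_mem_wSub D i j
    · exact absurd (e ▸ tsw_mem_wSub D i j) hb

theorem a₁_ne : a₁ D ≠ 1 := fun h => zc_ne D (by rw [← a₁_sq, h, one_mul])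

theorem a₁_ne_zc : a₁ D ≠ zc D := fun h => zc_ne D (by rw [← a₁_sq, h, zc_sq])

theorem exists_sylow_wSub (hz : ∀ x : G, Commute x (zc D)) :
    ∃ T : Sylow 2 (centralizer ({a₁ D} : Set G)),
      (T : Subgroup (centralizer ({a₁ D} : Set G))) = (wSub D).subgroupOf (centralizer ({a₁ D} : Set G)) := by
  set H := centralizer ({a₁ D} : Set G)
  have hle : wSub D ≤ H := inf_le_right
  have hp : IsPGroup 2 ((wSub D).subgroupOf H) :=
    (P.isPGroup'.to_le inf_le_left).comap_of_injective H.subtype H.subtype_injective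
  obtain ⟨U, hU⟩ := hp.exists_le_sylow
  refine ⟨U, (eq_of_le_of_card_ge hU ?_).symm⟩
  by_contra hlt
  have hWc : Nat.card ((wSub D).subgroupOf H) = Nat.card (wSub D) :=
    Nat.card_congr (subgroupOfEquivOfLe hle).toEquiv
  rw [hWc, not_le] at hlt
  have hd : Nat.card (wSub D) ∣ Nat.card (U : Subgroup H) := hWc ▸ card_dvd_of_le hU
  obtain ⟨m, hm⟩ := hd
  have hm2 : 2 ≤ m := by
    by_contra h
    interval_cases m <;> omega
  have hP : Nat.card (P : Subgroup G) = Nat.card (wSub D) * 2 := by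
    have h2 := ((wSub D).subgroupOf (P : Subgroup G)).card_mul_index
    have hWP : wSub D ≤ (P : Subgroup G) := inf_le_left
    rw [Nat.card_congr (subgroupOfEquivOfLe hWP).toEquiv,
      show ((wSub D).subgroupOf (P : Subgroup G)).index = 2 from wSub_relIndex D] at h2
    exact h2.symm
  set U' := (U : Subgroup H).map H.subtype with hU'
  obtain ⟨h, hh⟩ := exists_conj_le P (U.isPGroup'.map H.subtype)
  have himg : U'.map (MulAut.conj h).toMonoidHom = (P : Subgroup G) := by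
    refine eq_of_le_of_card_ge ?_ ?_
    · rintro _ ⟨u, hu, rfl⟩
      exact hh u hu
    · rw [card_map_of_injective (MulAut.conj h).injective, hU',
        card_map_of_injective H.subtype_injective, hP, hm]
      exact Nat.mul_le_mul_left _ hm2
  have haW : a₁ D ∈ wSub D := t_mem_wSub D _ _
  have haU : a₁ D ∈ U' := ⟨⟨a₁ D, hle haW⟩, hU (mem_subgroupOf.2 haW), rfl⟩
  have hc : ∀ x ∈ (P : Subgroup G), Commute (h * a₁ D * h⁻¹) x := by
    intro x hx
    obtain ⟨_, ⟨u, -, rfl⟩, rfl⟩ := himg.ge hx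
    have h1 : Commute (a₁ D) (u : G) := (mem_centralizer_singleton_iff.1 u.2).symm
    exact h1.map (MulAut.conj h)
  rcases center_sylow D (hh _ haU) hc with e | e
  · exact a₁_ne D (conj_eq_one_iff.1 e)
  · refine a₁_ne_zc D ?_
    have e2 : h * a₁ D * h⁻¹ = h * zc D * h⁻¹ := by rw [e, (hz h).eq, mul_inv_cancel_right]
    exact mul_left_cancel (mul_right_cancel e2)

theorem wSub_inv_a {v : G} (hv : v ∈ wSub D) (hvv : v * v = 1) :
    v ∈ quat (swap D) ∨ ∃ q ∈ quat (swap D), v = D.t D.h 0 * q := by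
  rcases (mem_wSub D).1 hv with ⟨i, j, rfl⟩ | ⟨i, j, rfl⟩
  · rw [D.t_mul, D.t_eq_one_iff] at hvv
    rcases D.two_cases hvv.1 with rfl | rfl <;> rcases D.two_cases hvv.2 with rfl | rfl
    · exact Or.inl (by rw [D.t_zero]; exact one_mem _)
    · refine Or.inr ⟨_, t_mem_quat (swap D) D.h, ?_⟩
      rw [swap_t, neg_neg, D.t_mul, D.h_add_h, zero_add]
    · exact Or.inr ⟨1, one_mem _, by rw [mul_one]⟩
    · exact Or.inl (by rw [show D.t D.h D.h = zc D from rfl, ← swap_zc]; exact zc_mem_quat (swap D))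
  · rw [tsw_sq, D.t_eq_one_iff] at hvv
    obtain rfl := sub_eq_zero.1 hvv.1
    refine Or.inr ⟨_, ts_mem_quat (swap D) i, ?_⟩
    rw [swap_t, swap_s, swap_h, neg_neg, D.t_t_assoc, h_cancel, zero_add]

/-- **Conjugacy in the centraliser of `a₁`.** -/
theorem mem_quat_of_conj (hz : ∀ x : G, Commute x (zc D)) {g : G} (hg : Commute g (a₁ D))
    {k : ZMod (4 * d)} {y : G} (hy : y ∈ wSub D) (hyq : g * D.t k (-k) * g⁻¹ = y)
    {l : ZMod (4 * d)} (hy2 : y * y = D.t l (-l)) : y ∈ quat D := by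
  classical
  haveI : NeZero (4 * d) := ⟨by have := D.d_pos; omega⟩
  set H := centralizer ({a₁ D} : Set G)
  obtain ⟨T, hT⟩ := exists_sylow_wSub D hz
  have hTmem : ∀ x : H, x ∈ (T : Subgroup H) ↔ (x : G) ∈ wSub D := fun x => by rw [hT, mem_subgroupOf]
  set q := D.t k (-k) with hq
  have hqW : q ∈ wSub D := t_mem_wSub D _ _
  have hgH : g ∈ H := mem_centralizer_singleton_iff.2 hg
  set g' : H := ⟨g, hgH⟩
  set q' : H := ⟨q, (mem_inf.1 hqW).2⟩
  set y' : H := ⟨y, (mem_inf.1 hy).2⟩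
  have hgq : g' * q' * g'⁻¹ = y' := Subtype.ext hyq
  -- squares agree
  have hsq : y * y = q * q := by
    have hcent : ∀ (m : ZMod (4 * d)) (x : H), (x : G) = D.t m (-m) →
        x ∈ centralizer ((T : Subgroup H) : Set H) := fun m x hx => mem_centralizer_iff.2 fun w hw =>
      Subtype.ext (by
        show (w : G) * x = x * w
        rw [hx]
        exact (t_center_wSub D m ((hTmem w).1 hw)).eq.symm)
    have hq2 : q * q = D.t (k + k) (-(k + k)) := by rw [hq, D.t_mul, neg_add]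
    have hmem := hcent (k + k) (q' * q') hq2
    have hmem' : g'⁻¹⁻¹ * (q' * q') * g'⁻¹ ∈ centralizer ((T : Subgroup H) : Set H) := by
      refine hcent l _ ?_
      rw [inv_inv, show g' * (q' * q') * g'⁻¹ = g' * q' * g'⁻¹ * (g' * q' * g'⁻¹) by group, hgq]
      exact hy2
    obtain ⟨n, hnT, hn⟩ := T.conj_eq_normalizer_conj_of_mem_centralizer (q' * q') g'⁻¹ hmem hmem'
    rw [inv_inv, show g' * (q' * q') * g'⁻¹ = g' * q' * g'⁻¹ * (g' * q' * g'⁻¹) by group, hgq] at hn
    -- the normaliser acts trivially on the cyclic centre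
    have hact : Commute (n : G) (D.t 1 (-1)) := by
      have hcenter : ∀ x : H, x ∈ normalizer ((T : Subgroup H) : Set H) →
          ∃ m : ZMod (4 * d), (x : G) * D.t 1 (-1) * (x : G)⁻¹ = D.t m (-m) := by
        intro x hx
        set a' : H := ⟨D.t 1 (-1), (mem_inf.1 (t_mem_wSub D _ _)).2⟩
        have h1 : x * a' * x⁻¹ ∈ (T : Subgroup H) :=
          (mem_normalizer_iff.1 hx a').1 ((hTmem a').2 (t_mem_wSub D _ _))
        refine wSub_center D ((hTmem _).1 h1) fun w hw => ?_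
        have hwH : w ∈ H := (mem_inf.1 hw).2
        have h2 : x⁻¹ * ⟨w, hwH⟩ * x ∈ (T : Subgroup H) := by
          have := (mem_normalizer_iff.1 (inv_mem hx) ⟨w, hwH⟩).1 ((hTmem ⟨w, hwH⟩).2 hw)
          rwa [inv_inv] at this
        have h3 := (t_center_wSub D 1 ((hTmem _).1 h2)).map (MulAut.conj (x : G))
        simpa [mul_assoc] using h3
      obtain ⟨m, hm⟩ := hcenter n hnT
      have hlin : ∀ j : ZMod (4 * d), (n : G) * D.t j (-j) * (n : G)⁻¹ = D.t (j * m) (-(j * m)) := fun j => by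
        have hj : D.t j (-j) = D.t 1 (-1) ^ j.val := by rw [a₁_pow, mul_one, ZMod.natCast_zmod_val]
        rw [hj, ← conj_pow, hm, a₁_pow, ZMod.natCast_zmod_val]
      have hiter : ∀ N : ℕ, (n : G) ^ N * D.t 1 (-1) * ((n : G) ^ N)⁻¹ = D.t (m ^ N) (-(m ^ N)) := by
        intro N
        induction N with
        | zero => simp
        | succ N ih =>
          rw [show (n : G) ^ (N + 1) * D.t 1 (-1) * ((n : G) ^ (N + 1))⁻¹ =
            n * ((n : G) ^ N * D.t 1 (-1) * ((n : G) ^ N)⁻¹) * (n : G)⁻¹ by rw [pow_succ']; group, ih, hlin,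
            pow_succ]
      set X := normalizer ((T : Subgroup H) : Set H)
      haveI : ((T : Subgroup H).subgroupOf X).Normal := normal_subgroupOf_of_le_normalizer le_rfl
      set N := ((T : Subgroup H).subgroupOf X).index
      have hNodd : Odd N := by
        rw [Nat.odd_iff, ← Nat.two_dvd_ne_zero]
        intro h2
        exact T.not_dvd_index (h2.trans ⟨X.index, (relIndex_mul_index le_normalizer).symm⟩)
      have hnN : ((n ^ N : H) : G) ∈ wSub D := (hTmem _).1 (mem_subgroupOf.1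
        (pow_index_mem ((T : Subgroup H).subgroupOf X) ⟨n, hnT⟩))
      have hN1 : m ^ N = 1 := by
        have h1 := hiter N
        rw [← SubmonoidClass.coe_pow, (t_center_wSub D 1 hnN).symm.eq, mul_inv_cancel_right] at h1
        exact (D.t_inj h1).1.symm
      obtain ⟨K, hK0, hK⟩ := four_d_pow D
      let μ : (ZMod (4 * d))ˣ := Units.ofPowEqOne m N hN1 hNodd.pos.ne'
      have hμ1 : orderOf μ ∣ N := orderOf_dvd_of_pow_eq_one (Units.ext (by simp [μ, hN1]))
      have hμ2 : orderOf μ ∣ 2 ^ (K - 1) := by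
        refine (orderOf_dvd_natCard μ).trans (dvd_of_eq ?_)
        rw [Nat.card_eq_fintype_card, ZMod.card_units_eq_totient, hK, Nat.totient_prime_pow Nat.prime_two hK0]
        ring
      have hμ : μ = 1 := orderOf_eq_one_iff.1
        (Nat.eq_one_of_dvd_coprimes ((Nat.coprime_two_right.2 hNodd).pow_right _) hμ1 hμ2)
      have hm1 : m = 1 := congrArg Units.val hμ
      exact mul_inv_eq_iff_eq_mul.1 (by rw [hlin 1, one_mul, hm1])
    have hj : q * q = D.t 1 (-1) ^ (k + k).val := by rw [hq2, a₁_pow, mul_one, ZMod.natCast_zmod_val]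
    have h5 : y * y = (n : G)⁻¹ * (q * q) * n := congrArg Subtype.val hn
    rw [h5, mul_assoc, ← (hj ▸ (hact.pow_right _) : Commute (n : G) (q * q)).eq, inv_mul_cancel_left]
  -- the involution
  set v := q⁻¹ * y with hv
  have hvW : v ∈ wSub D := mul_mem (inv_mem hqW) hy
  have hqy : Commute q y := t_center_wSub D k hy
  have hvv : v * v = 1 := by
    rw [hv, (hqy.inv_left.symm).mul_mul_mul_comm, hsq, ← mul_inv_rev, inv_mul_cancel]
  by_contra hyQ
  have hv1 : v ≠ 1 := fun e => hyQ (by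
    rw [show y = q * v by rw [hv, mul_inv_cancel_left], e, mul_one]
    exact t_mem_quat D k)
  have hvz : v ≠ zc D := fun e => hyQ (by
    rw [show y = q * v by rw [hv, mul_inv_cancel_left], e]
    exact mul_mem (t_mem_quat D k) (zc_mem_quat D))
  -- the transfer into `W / Q₂`
  set M := ((quat (swap D)).subgroupOf H).subgroupOf (T : Subgroup H) with hM
  haveI hMn : M.Normal := ⟨fun x hx c => by
    rw [hM, mem_subgroupOf, mem_subgroupOf] at hx ⊢
    exact quat_conj (swap D) (mem_inf.1 ((hTmem _).1 c.2)).1 hx⟩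
  have hQW : ∀ x : G, x ∈ quat (swap D) → x ∈ wSub D := fun x hx =>
    mem_inf.2 ⟨quat_le _ hx, mem_centralizer_singleton_iff.2 (quat_comm D (a₁_mem D) hx).symm.eq⟩
  have hgen : ∀ w : (T : Subgroup H), ∃ i : ZMod (4 * d), ∃ c ∈ quat (swap D), ((w : H) : G) = D.t i 0 * c := by
    intro w
    rcases (mem_wSub D).1 ((hTmem _).1 w.2) with ⟨i, j, e⟩ | ⟨i, j, e⟩
    · refine ⟨i - j, _, t_mem_quat (swap D) j, ?_⟩
      rw [e, swap_t, neg_neg, D.t_mul, sub_add_cancel, zero_add]
    · refine ⟨i - (D.h + j), _, ts_mem_quat (swap D) j, ?_⟩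
      rw [e, swap_t, swap_s, swap_h, neg_neg, D.t_t_assoc, sub_add_cancel, zero_add]
  letI hcomm : CommGroup ((T : Subgroup H) ⧸ M) := { (inferInstance : Group ((T : Subgroup H) ⧸ M)) with
    mul_comm := fun a b => by
      obtain ⟨a, rfl⟩ := QuotientGroup.mk'_surjective M a
      obtain ⟨b, rfl⟩ := QuotientGroup.mk'_surjective M b
      obtain ⟨i, c, hc, ha⟩ := hgen a
      obtain ⟨j, e, he, hb⟩ := hgen b
      rw [← map_mul, ← map_mul]
      apply (QuotientGroup.eq).2
      rw [hM, mem_subgroupOf, mem_subgroupOf]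
      simp only [Subgroup.coe_mul, InvMemClass.coe_inv, ha, hb]
      have hn : ∀ (m : ZMod (4 * d)) (x : G), x ∈ quat (swap D) → D.t m 0 * x * (D.t m 0)⁻¹ ∈ quat (swap D) :=
        fun m x hx => quat_conj (swap D) (D.t_mem _ _) hx
      have h1 : (D.t i 0 * c * (D.t j 0 * e))⁻¹ * (D.t j 0 * e * (D.t i 0 * c)) =
          e⁻¹ * ((D.t (-j) 0) * c⁻¹ * (D.t (-j) 0)⁻¹) * (D.t (-i) 0 * e * (D.t (-i) 0)⁻¹) * c := by
        have h2 : D.t j 0 * D.t i 0 = D.t i 0 * D.t j 0 := by rw [D.t_mul, D.t_mul, add_comm j]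
        rw [D.t_inv, D.t_inv, neg_neg, neg_neg, neg_zero, show D.t (-j) 0 = (D.t j 0)⁻¹ by rw [D.t_inv, neg_zero],
          show D.t (-i) 0 = (D.t i 0)⁻¹ by rw [D.t_inv, neg_zero]]
        calc _ = e⁻¹ * (D.t j 0)⁻¹ * c⁻¹ * (D.t i 0)⁻¹ * D.t j 0 * e * D.t i 0 * c := by group
          _ = e⁻¹ * (D.t j 0)⁻¹ * c⁻¹ * (D.t j 0 * (D.t i 0)⁻¹) * e * D.t i 0 * c := by
              rw [(Commute.inv_right (h2 : Commute (D.t j 0) (D.t i 0))).eq]; group
          _ = _ := by group
      rw [h1]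
      exact mul_mem (mul_mem (mul_mem (inv_mem he) (hn _ _ (inv_mem hc))) (hn _ _ he)) hc }
  set φ := QuotientGroup.mk' M
  have ha0 : (⟨D.t D.h 0, (mem_inf.1 (t_mem_wSub D _ _)).2⟩ : H) ∈ (T : Subgroup H) :=
    (hTmem _).2 (t_mem_wSub D _ _)
  set c := φ ⟨_, ha0⟩ with hc
  have hcc : c * c = 1 := by
    rw [hc, ← map_mul]
    refine (QuotientGroup.eq_one_iff _).2 ?_
    rw [hM, mem_subgroupOf, mem_subgroupOf]
    simp [D.t_mul, D.h_add_h, D.t_zero]
  have hc1 : c ≠ 1 := fun h => by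
    have h1 := (QuotientGroup.eq_one_iff _).1 h
    rw [hM, mem_subgroupOf, mem_subgroupOf] at h1
    have h2 : D.t D.h 0 ∈ quat D := by
      refine mem_quat_of_comm D (D.t_mem _ _) fun x hx => ?_
      rcases hx with ⟨j, rfl⟩ | ⟨j, rfl⟩
      · show _ = _
        rw [swap_t, D.t_mul, D.t_mul, add_comm D.h, add_comm (0 : ZMod (4 * d))]
      · exfalso
        rcases h1 with ⟨i, e⟩ | ⟨i, e⟩
        · rw [swap_t, neg_neg] at e
          obtain ⟨e1, e2⟩ := D.t_inj e
          exact D.h_ne (e1.trans e2.symm)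
        · exact D.el_tsw_ne e.symm
    rcases quat_inf D h2 h1 with e | e
    · exact D.h_ne (D.t_eq_one_iff.1 e).1
    · exact D.h_ne (D.t_inj e).2.symm
  set v' : H := ⟨v, (mem_inf.1 hvW).2⟩
  have hV : MonoidHom.transfer φ v' = c := by
    refine CfsgLib.Criterion.transfer_eq_of_full T φ (Subtype.ext hvv) hcc fun u hu _ => ?_
    obtain ⟨x, hx⟩ := isConj_iff.1 hu
    have hxu : (x : G) * v * (x : G)⁻¹ = ((u : H) : G) := congrArg Subtype.val hx
    have huu : ((u : H) : G) * u = 1 := by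
      rw [← hxu, show (x : G) * v * (x : G)⁻¹ * ((x : G) * v * (x : G)⁻¹) = x * (v * v) * (x : G)⁻¹ by group,
        hvv, mul_one, mul_inv_cancel]
    rcases wSub_inv_a D ((hTmem _).1 u.2) huu with h | ⟨c', hc', e⟩
    · exfalso
      rcases quat_sq_one (swap D) h huu with e | e
      · rw [e, conj_eq_one_iff] at hxu
        exact hv1 hxu
      · rw [e, swap_zc] at hxu
        have e2 : (x : G) * v * (x : G)⁻¹ = x * zc D * (x : G)⁻¹ := by
          rw [hxu, (hz _).eq, mul_inv_cancel_right]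
        exact hvz (mul_left_cancel (mul_right_cancel e2))
    · rw [hc]
      refine (QuotientGroup.eq).2 ?_
      rw [hM, mem_subgroupOf, mem_subgroupOf]
      simp only [Subgroup.coe_mul, InvMemClass.coe_inv, e]
      rw [mul_inv_rev, mul_assoc, inv_mul_cancel, mul_one]
      exact inv_mem hc'
  have hV' : MonoidHom.transfer φ v' = 1 := by
    rw [show v' = q'⁻¹ * (g' * q' * g'⁻¹) by rw [hgq]; exact Subtype.ext hv]
    simp only [map_mul, map_inv]
    rw [mul_comm (MonoidHom.transfer φ g'), mul_inv_cancel_right, inv_mul_cancel]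
  exact hc1 (hV.symm.trans hV')

end CfsgLib.GTwoCent
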