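import Cfsg.Agent.GTwoCent.Basic
import Cfsg.Agent.GWApps.QDCentralizer
import Cfsg.Agent.GW.Top.Statement

/-!
# A quaternion subgroup which is not normal lies in an `SL₂(q)`, `q > 3`
-/

set_option autoImplicit false
set_option linter.unusedSectionVars false
set_option linter.style.haveILetI false

namespace CfsgLib.GTwoCent

open Subgroup CfsgLib.GTwoFusion
open scoped commutatorElement

universe u

variable {G : Type u} [Group G] [Finite G] {P : Sylow 2 G} {d : ℕ} (D : Shape (P : Subgroup G) d)

local instance factTwoSideN : Fact (Nat.Prime 2) := ⟨Nat.prime_two⟩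

theorem map_center_equiv {A B : Type*} [Group A] [Group B] (e : A ≃* B) :
    (center A).map e.toMonoidHom = center B := by
  ext b
  obtain ⟨a, rfl⟩ := e.surjective b
  show e a ∈ (center A).map e.toMonoidHom ↔ _
  rw [show e a = e.toMonoidHom a from rfl, mem_map_iff_mem (f := e.toMonoidHom) e.injective]
  simp only [mem_center_iff]
  exact ⟨fun h c => by
    obtain ⟨c, rfl⟩ := e.surjective c
    show e c * e a = e a * e c
    rw [← map_mul, h c, map_mul],
    fun h c => e.injective (by rw [map_mul, map_mul]; exact h (e c))⟩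

variable (hz : ∀ x : G, Commute x (zc D)) (hO : Cfsg.oddCore G = ⊥)
  (hs : IsConj D.s (D.t D.h 0)) (hN : ¬ (quat D).Normal)
include hz hO hs hN

theorem ncl_perfect : ⁅ncl D, ncl D⁆ = ncl D := by
  set K := ncl D with hK
  have hq : quat D ≤ K := subset_normalClosure
  refine le_antisymm (commutator_le_left K K) (normalClosure_le_normal ?_)
  by_contra hcon
  apply hN
  have h1 : ⁅K, K⁆ ≤ zpowers (zc D) := le_zpowers_of_inf D hz hO _ fun x hx hxP => by
    by_contra h
    rw [not_or] at h
    exact hcon (quat_le_normal D hz hs (normalClosure_inf D hz hO (commutator_le_left K K hx) hxP)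
      hx h.1 h.2)
  obtain ⟨T, hT⟩ := CommClosed.sylow_trace K P
  have hTq : (T : Subgroup K) = (quat D).subgroupOf K := by
    rw [hT]
    ext x
    simp only [mem_subgroupOf]
    exact ⟨normalClosure_inf D hz hO x.2, fun h => quat_le D h⟩
  haveI : (T : Subgroup K).Normal := ⟨fun x hx g => by
    rw [hTq, mem_subgroupOf] at hx ⊢
    have h2 : ⁅(g : G), (x : G)⁆ ∈ quat D :=
      (zpowers_le.2 (zc_mem_quat D)) (h1 (Subgroup.commutator_mem_commutator g.2 x.2))
    have h3 := mul_mem h2 hx
    simpa [commutatorElement_def] using h3⟩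
  haveI : (T : Subgroup K).Characteristic := T.characteristic_of_normal inferInstance
  have h4 : ((T : Subgroup K).map K.subtype).Normal := inferInstance
  rwa [hTq, subgroupOf_map_subtype, inf_eq_left.2 hq] at h4

theorem ncl_oddCore : Cfsg.oddCore (ncl D) = ⊥ := by
  set K := ncl D
  haveI : (Cfsg.oddCore K).Characteristic := characteristic_iff_map_le.mpr fun a =>
    Solvable.le_pPrimeCore 2 ((Solvable.pPrimeCore_normal 2).map _ a.surjective) (by
      rw [card_map_of_injective a.injective]; exact Solvable.coprime_card_pPrimeCore 2)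
  have hle : (Cfsg.oddCore K).map K.subtype ≤ Cfsg.oddCore G :=
    Solvable.le_pPrimeCore 2 inferInstance (by
      rw [card_map_of_injective K.subtype_injective]
      exact Solvable.coprime_card_pPrimeCore 2)
  rw [hO, le_bot_iff] at hle
  exact (map_eq_bot_iff_of_injective _ K.subtype_injective).1 hle

theorem ncl_rank_one : Cfsg.PRankLE 2 1 (ncl D) := by
  set K := ncl D
  intro A _ hA
  let c : K := ⟨zc D, subset_normalClosure (zc_mem_quat D)⟩
  have hle : A ≤ zpowers c := by
    intro a ha
    have haa : (a : G) * a = 1 := by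
      have := congrArg Subtype.val (hA a ha)
      simpa [sq] using this
    have hp : IsPGroup 2 (zpowers (a : G)) := by
      have h2 : orderOf (a : G) ∣ 2 := orderOf_dvd_of_pow_eq_one (by rw [sq, haa])
      obtain ⟨k, -, hk⟩ := (Nat.dvd_prime_pow Nat.prime_two).1 (show orderOf (a : G) ∣ 2 ^ 1 by rwa [pow_one])
      exact IsPGroup.of_card (n := k) (by rw [Nat.card_zpowers, hk])
    obtain ⟨g, hg⟩ := exists_conj_le P hp
    have h1 : g * a * g⁻¹ ∈ quat D :=
      normalClosure_inf D hz hO ((inferInstance : K.Normal).conj_mem _ a.2 g) (hg _ (mem_zpowers _))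
    rcases quat_sq_one D h1 (by
        rw [show g * (a : G) * g⁻¹ * (g * a * g⁻¹) = g * (a * a) * g⁻¹ by group, haa, mul_one,
          mul_inv_cancel]) with e | e
    · rw [conj_eq_one_iff] at e
      rw [show a = 1 from Subtype.ext e]
      exact one_mem _
    · have e2 : g * (a : G) * g⁻¹ = g * zc D * g⁻¹ := by rw [e, conj_zc D hz]
      rw [show a = c from Subtype.ext (mul_left_cancel (mul_right_cancel e2))]
      exact mem_zpowers _
  refine (card_le_of_le hle).trans ?_
  rw [Nat.card_zpowers, pow_one]
  exact (orderOf_submonoid c : orderOf (c : G) = orderOf c) ▸ (orderOf_zc D).le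

/-- The alternating group of degree seven does not occur. -/
theorem no_alt_seven (h2 : Nat.card (center (ncl D)) = 2)
    (e : ncl D ⧸ center (ncl D) ≃* alternatingGroup (Fin 7)) : False := by
  classical
  set K := ncl D with hK
  have hKK : ⁅K, K⁆ = K := ncl_perfect D hz hO hs hN
  haveI : Group.IsPerfect K := Subgroup.isPerfect_iff.2 hKK
  have hno := GWApps.no_index_two_of_perfect (Group.IsPerfect.commutator_eq_top (G := K))
  set g := D.t 1 0 with hg
  set Φ := (GWApps.quotCenterAut K).comp (MulAut.conjNormal : G →* MulAut K) with hΦ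
  have hgn : ∀ n : ℕ, g ^ n = D.t (n : ZMod (4 * d)) 0 := by
    intro n
    induction n with
    | zero => rw [pow_zero, Nat.cast_zero, D.t_zero]
    | succ n ih => rw [pow_succ, ih, hg, D.t_mul, add_zero, Nat.cast_succ]
  obtain ⟨n, hn0, hn⟩ := four_d_pow D
  have h1 : Φ g ^ 2 ^ n = 1 := by
    rw [← map_pow, hgn, ← hn, ZMod.natCast_self, D.t_zero, map_one]
  have h2' : Φ g ^ 2 ^ (n - 1) ≠ 1 := by
    intro h
    rw [← map_pow, hgn] at h
    have hh : ((2 ^ (n - 1) : ℕ) : ZMod (4 * d)) = D.h := by
      have e1 : 2 ^ (n - 1) = 2 * d := by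
        have : 2 ^ n = 2 ^ (n - 1) * 2 := by rw [← pow_succ, Nat.sub_add_cancel hn0]
        omega
      rw [e1]
      rfl
    rw [hh] at h
    have hc := GWApps.centralizer_of_quot hno h2 h
    have h3 := mem_centralizer_iff.1 hc _ (subset_normalClosure (ts_mem_quat D 0))
    rw [ts_mul_t, t_mul_ts] at h3
    exact D.h_ne (by linear_combination -(D.t_inj (mul_right_cancel h3)).1)
  have hord : orderOf (Φ g) = 2 ^ n := by
    obtain ⟨m, rfl⟩ : ∃ m, n = m + 1 := ⟨n - 1, by omega⟩
    exact orderOf_eq_prime_pow (by simpa using h2') h1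
  obtain ⟨σ, hσ⟩ := AutAlt.exists_conj (by simp) (by simp) (show (0 : Fin 7) ≠ 1 by decide)
    (MulAut.congr e (Φ g))
  have hdvd : 2 ^ n ∣ orderOf σ := by
    rw [← hord, ← (MulAut.congr e).orderOf_eq, ← hσ]
    exact orderOf_map_dvd (MulAut.conjNormal : Equiv.Perm (Fin 7) →* MulAut (alternatingGroup (Fin 7))) σ
  have hd1 : d = 1 := by
    have hn2 : n ≤ 2 := by
      by_contra hlt
      have h8 : 8 ∣ orderOf σ := (pow_dvd_pow 2 (show 3 ≤ n by omega)).trans hdvd
      exact GWApps.perm_seven_no_eight (σ ^ (orderOf σ / 8))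
        (orderOf_pow_orderOf_div (orderOf_pos σ).ne' h8)
    have := Nat.pow_le_pow_right two_pos hn2
    have := D.d_pos
    omega
  obtain ⟨T, hT⟩ := CommClosed.sylow_trace K P
  have hTq : (T : Subgroup K) = (quat D).subgroupOf K := by
    rw [hT]
    ext x
    simp only [mem_subgroupOf]
    exact ⟨normalClosure_inf D hz hO x.2, fun h => quat_le D h⟩
  have hTc : Nat.card (T : Subgroup K) = 8 := by
    rw [hTq, Nat.card_congr (subgroupOfEquivOfLe (subset_normalClosure : quat D ≤ K)).toEquiv,
      quat_card, hd1]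
  have hKc : 16 ∣ Nat.card K := by
    rw [card_eq_card_quotient_mul_card_subgroup (center K), h2, Nat.card_congr e.toEquiv,
      nat_card_alternatingGroup, Nat.card_fin]
    norm_num [Nat.factorial]
  have hdd : 2 ^ 4 ∣ Nat.card (T : Subgroup K) * (T : Subgroup K).index := by
    rw [card_mul_index]; simpa using hKc
  have h16 : 2 ^ 4 ∣ Nat.card (T : Subgroup K) :=
    ((Nat.prime_two.coprime_iff_not_dvd.2 T.not_dvd_index).pow_left 4).dvd_of_dvd_mul_right hdd
  rw [hTc] at h16
  norm_num at h16

theorem ncl_sl : ∃ (F : Type) (_ : Field F) (_ : Fintype F), Odd (Fintype.card F) ∧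
    Nonempty (ncl D ≃* Matrix.SpecialLinearGroup (Fin 2) F) := by
  set K := ncl D with hK
  haveI hP : Group.IsPerfect K := Subgroup.isPerfect_iff.2 (ncl_perfect D hz hO hs hN)
  have heven : Even (Nat.card K) := even_iff_two_dvd.2 (by
    rw [← orderOf_zc D]
    exact K.orderOf_dvd_natCard (subset_normalClosure (zc_mem_quat D)))
  have hOK := ncl_oddCore D hz hO hs hN
  let b : K ⧸ Cfsg.oddCore K ≃* K :=
    (QuotientGroup.quotientMulEquivOfEq hOK).trans QuotientGroup.quotientBot
  rcases GWApps.perfect_rank_one GW.Top.statement hP (ncl_rank_one D hz hO hs hN) heven with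
    ⟨F, i1, i2, hodd, -, ⟨q⟩⟩ | ⟨hc2, ⟨q⟩, -⟩
  · exact ⟨F, i1, i2, hodd, ⟨b.symm.trans q⟩⟩
  · exfalso
    have hmap := map_center_equiv b
    refine no_alt_seven D hz hO hs hN ?_ ((QuotientGroup.congr _ _ b hmap).symm.trans q)
    rw [← hmap, card_map_of_injective (f := b.toMonoidHom) b.injective, hc2]

/-- **A quaternion subgroup which is not normal.** -/
theorem sideN : Comp D (ncl D) := by
  have hsl := ncl_sl D hz hO hs hN
  refine ⟨inferInstance, subset_normalClosure, hsl, fun l hl y hy => normalClosure_commute D hz hO hl hy,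
    fun y hy => ⟨1, odd_one, by rwa [pow_one]⟩, ?_, ?_⟩
  · set K := ncl D with hK
    haveI hP : Group.IsPerfect K := Subgroup.isPerfect_iff.2 (ncl_perfect D hz hO hs hN)
    have hno := GWApps.no_index_two_of_perfect (Group.IsPerfect.commutator_eq_top (G := K))
    obtain ⟨F, _, _, hodd, ⟨q⟩⟩ := hsl
    have h2 : Nat.card (center K) = 2 := by
      rw [← card_map_of_injective (f := q.toMonoidHom) q.injective, map_center_equiv q,
        Linear.card_center_SL, Fintype.card_fin, Nat.card_eq_fintype_card (α := F)]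
      refine Nat.gcd_eq_left ?_
      obtain ⟨k, hk⟩ := hodd
      omega
    let e : K ⧸ center K ≃* Matrix.ProjectiveSpecialLinearGroup (Fin 2) F :=
      QuotientGroup.congr _ _ q (map_center_equiv q)
    let Φ := (MulAut.congr e).toMonoidHom.comp
      ((GWApps.quotCenterAut K).comp (MulAut.conjNormal : G →* MulAut K))
    intro x hx
    have h1 : Φ x ∈ Cfsg.Inn (Matrix.ProjectiveSpecialLinearGroup (Fin 2) F) := by
      refine GWApps.out_psl_commutator ?_
      rw [_root_.commutator_def] at hx ⊢
      have := mem_map_of_mem Φ hx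
      rw [Subgroup.map_commutator] at this
      exact Subgroup.commutator_mono le_top le_top this
    obtain ⟨p, hp⟩ := h1
    obtain ⟨k, rfl⟩ := (show Function.Surjective (fun k : K => e (QuotientGroup.mk' (center K) k)) from
      e.surjective.comp (QuotientGroup.mk'_surjective _)) p
    refine ⟨(k : G), k.2, fun y hy => ?_⟩
    have hk : Φ (k : G) = Φ x := by
      rw [← hp]
      refine MulEquiv.ext fun v => ?_
      obtain ⟨v, rfl⟩ := e.surjective v
      induction v using QuotientGroup.induction_on with
      | _ v =>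
        show e (GWApps.quotCenterAut K (MulAut.conjNormal (k : G)) (e.symm (e v))) =
          e (QuotientGroup.mk' _ k) * e v * (e (QuotientGroup.mk' _ k))⁻¹
        rw [e.symm_apply_apply, GWApps.quotCenterAut_apply, ← map_inv, ← map_mul, ← map_mul]
        congr 1
    have h3 : GWApps.quotCenterAut K (MulAut.conjNormal ((k : G)⁻¹ * x)) = 1 := by
      refine (MulAut.congr e).injective ?_
      show Φ ((k : G)⁻¹ * x) = _
      rw [map_mul Φ, map_inv Φ, hk, inv_mul_cancel, map_one]
    exact (mem_centralizer_iff.1 (GWApps.centralizer_of_quot hno h2 h3) y hy).symm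
  · rw [← ncl_perfect D hz hO hs hN, _root_.commutator_def]
    exact Subgroup.commutator_mono le_top le_top

end CfsgLib.GTwoCent
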