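import Cfsg.Agent.GTwoCent.Closed
import Cfsg.Agent.CommClosed.Induction

/-!
# The normal closures of the two quaternion subgroups

With trivial odd core the conjugates of the two quaternion subgroups commute modulo `⟨z⟩`, so their
normal closures commute. If `s` is conjugate to `a` then all roots of `z` in a quaternion subgroup are
conjugate.
-/

set_option autoImplicit false
set_option linter.unusedSectionVars false
set_option linter.style.haveILetI false

namespace CfsgLib.GTwoCent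

open Subgroup CfsgLib.GTwoFusion

universe u

variable {G : Type u} [Group G] [Finite G] {P : Sylow 2 G} {d : ℕ} (D : Shape (P : Subgroup G) d)

local instance factTwoSplit : Fact (Nat.Prime 2) := ⟨Nat.prime_two⟩

/-- The elements conjugate into a quaternion subgroup. -/
def cls : Set G := {x | ∃ g : G, g * x * g⁻¹ ∈ quat D}

theorem cls_conj {x : G} (hx : x ∈ cls D) (g : G) : g * x * g⁻¹ ∈ cls D := by
  obtain ⟨c, hc⟩ := hx
  exact ⟨c * g⁻¹, by rwa [show c * g⁻¹ * (g * x * g⁻¹) * (c * g⁻¹)⁻¹ = c * x * c⁻¹ by group]⟩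

theorem quat_subset_cls {x : G} (hx : x ∈ quat D) : x ∈ cls D := ⟨1, by simpa using hx⟩

theorem cls_two {x : G} (hx : x ∈ cls D) : IsPGroup 2 (zpowers x) := by
  obtain ⟨c, hc⟩ := hx
  obtain ⟨k, hk⟩ := IsPGroup.iff_orderOf.1 P.isPGroup' ⟨_, quat_le D hc⟩
  rw [Subgroup.orderOf_mk] at hk
  have he : orderOf ((MulAut.conj c) x) = orderOf x := MulEquiv.orderOf_eq _ x
  exact IsPGroup.of_card (n := k) (by rw [Nat.card_zpowers, ← he]; exact hk)

theorem a_mem : D.t D.h 0 ∈ (P : Subgroup G) := D.t_mem _ _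

theorem wa_relIndex : ((P : Subgroup G) ⊓ centralizer ({D.t D.h 0} : Set G)).relIndex (P : Subgroup G) = 2 := by
  have hmem : ∀ g, g ∈ (P : Subgroup G) ⊓ centralizer ({D.t D.h 0} : Set G) ↔
      (∃ i j, g = D.t i j) ∨ ∃ i j, g = D.t i j * D.w := by
    intro g
    rw [mem_inf, mem_centralizer_singleton_iff]
    constructor
    · rintro ⟨hP, hc⟩
      rcases D.cases hP with ⟨i, j, rfl⟩ | ⟨i, j, rfl⟩ | ⟨i, j, rfl⟩ | ⟨i, j, rfl⟩
      · exact Or.inl ⟨i, j, rfl⟩
      · rw [ts_mul_t, D.t_t_assoc] at hc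
        exact absurd ((add_left_cancel ((D.t_inj (mul_right_cancel hc)).1.trans (add_comm _ _)))).symm
          D.h_ne
      · exact Or.inr ⟨i, j, rfl⟩
      · rw [mul_assoc, D.sw_mul_t, D.t_t_assoc, D.t_t_assoc, neg_zero] at hc
        exact absurd (add_left_cancel ((D.t_inj (mul_right_cancel hc)).1.trans (add_comm _ _))).symm
          D.h_ne
    · rintro (⟨i, j, rfl⟩ | ⟨i, j, rfl⟩)
      · exact ⟨D.t_mem _ _, by rw [D.t_mul, D.t_mul, add_comm i, add_comm j]⟩
      · refine ⟨mul_mem (D.t_mem _ _) D.w_mem, ?_⟩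
        rw [mul_assoc, D.w_t, D.neg_h, neg_zero, D.t_t_assoc, D.t_t_assoc, add_comm i, add_comm j]
  set W := (P : Subgroup G) ⊓ centralizer ({D.t D.h 0} : Set G)
  have hs : D.s ∉ W := fun h => by
    rcases (hmem _).1 h with ⟨i, j, e⟩ | ⟨i, j, e⟩
    · exact D.el_ts_ne (i := 0) (j := 0) (k := i) (l := j) (by rw [D.t_zero, one_mul]; exact e)
    · have h2 := D.el_injective (a₁ := ((0, 0), (1, 0))) (a₂ := ((i, j), (0, 1)))
        (by simpa [Shape.el, D.t_zero] using e)
      simp at h2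
  show (W.subgroupOf (P : Subgroup G)).index = 2
  rw [index_eq_two_iff]
  refine ⟨⟨D.s, D.s_mem⟩, fun b => ?_⟩
  simp only [mem_subgroupOf, Subgroup.coe_mul]
  by_cases hb : (b : G) ∈ W
  · exact Or.inr ⟨hb, fun h => hs (by simpa using mul_mem (inv_mem hb) h)⟩
  · refine Or.inl ⟨?_, hb⟩
    rcases D.cases b.2 with ⟨i, j, e⟩ | ⟨i, j, e⟩ | ⟨i, j, e⟩ | ⟨i, j, e⟩
    · exact absurd ((hmem _).2 (Or.inl ⟨i, j, e⟩)) hb
    · exact (hmem _).2 (Or.inl ⟨i, j, by rw [e, mul_assoc, D.s_sq, mul_one]⟩)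
    · exact absurd ((hmem _).2 (Or.inr ⟨i, j, e⟩)) hb
    · exact (hmem _).2 (Or.inr ⟨i, j, by rw [e, mul_assoc, mul_assoc, D.sw, D.s_s_assoc]⟩)

variable (hz : ∀ x : G, Commute x (zc D))
include hz

/-- A member of a family inside a 2-subgroup lands in the quaternion subgroup with it. -/
theorem cls_land {U : Subgroup G} {c : G} (hc : ∀ u ∈ U, c * u * c⁻¹ ∈ (P : Subgroup G)) {x : G}
    (hx : x ∈ cls D) (hxU : x ∈ U) : c * x * c⁻¹ ∈ quat D := by
  obtain ⟨g, hg⟩ := hx
  have := quat_closed D hz _ _ hg rfl (c * g⁻¹) (by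
    rw [show c * g⁻¹ * (g * x * g⁻¹) * (c * g⁻¹)⁻¹ = c * x * c⁻¹ by group]
    exact hc x hxU)
  rwa [show c * g⁻¹ * (g * x * g⁻¹) * (c * g⁻¹)⁻¹ = c * x * c⁻¹ by group] at this

/-- An element with centraliser of index two in the Sylow subgroup is fully centralised. -/
theorem full_of_index_two {y : G} (hyP : y ∈ (P : Subgroup G)) (hy1 : y ≠ 1) (hyz : y ≠ zc D)
    (hidx : ((P : Subgroup G) ⊓ centralizer ({y} : Set G)).relIndex (P : Subgroup G) = 2) : Full P y := by
  obtain ⟨h, hh, hfull, hmem⟩ := exists_full P hyP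
  intro U hU hUy
  set W := (P : Subgroup G) ⊓ centralizer ({y} : Set G) with hW
  set C := centralizer ({y} : Set G)
  obtain ⟨V, hV⟩ := ((P.isPGroup'.to_le inf_le_left : IsPGroup 2 W).comap_of_injective C.subtype
    C.subtype_injective).exists_le_sylow
  have hVW : (V : Subgroup C) = W.subgroupOf C := by
    refine (eq_of_le_of_card_ge hV ?_).symm
    by_contra hlt
    have hWc : Nat.card (W.comap C.subtype) = Nat.card W :=
      Nat.card_congr (subgroupOfEquivOfLe (inf_le_right : W ≤ C)).toEquiv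
    rw [hWc, not_le] at hlt
    obtain ⟨m, hm⟩ : Nat.card W ∣ Nat.card (V : Subgroup C) := hWc ▸ card_dvd_of_le hV
    have hm2 : 2 ≤ m := by
      by_contra hh
      interval_cases m <;> omega
    have hP : Nat.card (P : Subgroup G) = Nat.card W * 2 := by
      have h2 := (W.subgroupOf (P : Subgroup G)).card_mul_index
      have hWP : W ≤ (P : Subgroup G) := inf_le_left
      rw [Nat.card_congr (subgroupOfEquivOfLe hWP).toEquiv,
        show (W.subgroupOf (P : Subgroup G)).index = 2 from hidx] at h2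
      exact h2.symm
    obtain ⟨c, hc⟩ := exists_conj_le P (V.isPGroup'.map C.subtype)
    have himg : ((V : Subgroup C).map C.subtype).map (MulAut.conj c).toMonoidHom = (P : Subgroup G) := by
      refine eq_of_le_of_card_ge ?_ ?_
      · rintro _ ⟨u, hu, rfl⟩
        exact hc u hu
      · rw [card_map_of_injective (MulAut.conj c).injective, card_map_of_injective C.subtype_injective,
          hP, hm]
        exact Nat.mul_le_mul_left _ hm2
    have hyV : y ∈ (V : Subgroup C).map C.subtype :=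
      ⟨⟨y, mem_centralizer_singleton_iff.2 rfl⟩, hV (mem_inf.2 ⟨hyP, mem_centralizer_singleton_iff.2 rfl⟩), rfl⟩
    have hcen : ∀ x ∈ (P : Subgroup G), Commute (c * y * c⁻¹) x := by
      intro x hx
      obtain ⟨_, ⟨u, -, rfl⟩, rfl⟩ := himg.ge hx
      have h1 : Commute y (u : G) := (mem_centralizer_singleton_iff.1 u.2).symm
      exact h1.map (MulAut.conj c)
    rcases center_sylow D (hc _ hyV) hcen with e | e
    · exact hy1 (conj_eq_one_iff.1 e)
    · refine hyz ?_
      have e2 : c * y * c⁻¹ = c * zc D * c⁻¹ := by rw [e, conj_zc D hz]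
      exact mul_left_cancel (mul_right_cancel e2)
  set U' := U.subgroupOf C
  obtain ⟨k, hk⟩ := exists_conj_le V (U := U') (hU.comap_of_injective C.subtype C.subtype_injective)
  refine ⟨k, mem_centralizer_singleton_iff.1 k.2, fun u hu => ?_⟩
  have h1 := hk ⟨u, mem_centralizer_singleton_iff.2 (hUy u hu)⟩ (mem_subgroupOf.2 hu)
  rw [hVW] at h1
  exact (mem_inf.1 (mem_subgroupOf.1 h1)).1

/-- If `s` is conjugate to `a`, every root in the quaternion subgroup is conjugate to `a₁`. -/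
theorem root_isConj (hs : IsConj D.s (D.t D.h 0)) {e : G} (he : e ∈ quat D) (hee : e * e = zc D) :
    IsConj (a₁ D) e := by
  have hinv : IsConj (a₁ D) (a₁ D)⁻¹ := isConj_iff.2 ⟨D.t (D.h + 0) (-0) * D.s, by
    rw [a₁, D.t_inv, mul_inv_eq_iff_eq_mul, ts_mul_t, t_mul_ts]
    congr 2 <;> ring⟩
  have hx : ∀ k, IsConj (a₁ D) (D.t (D.h + k) (-k) * D.s) := by
    suffices h : IsConj (a₁ D) (D.t (D.h + d) (-d) * D.s) by
      intro k
      exact h.trans ((isConj_iff.2 ⟨_, ts_conj D d⟩).symm.trans (isConj_iff.2 ⟨_, ts_conj D k⟩))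
    obtain ⟨g, hg⟩ := isConj_iff.1 hs
    set e₁ := D.t (D.h + d) (-d) * D.s with he₁
    set e₂ := D.t (d : ZMod (4 * d)) d with he₂
    have he₁Q : e₁ ∈ quat D := ts_mem_quat D d
    have he₂Q : e₂ ∈ quat (swap D) := Or.inl ⟨d, by rw [swap_t, neg_neg]⟩
    have hprod : e₁ * e₂ = D.s := s_eq D
    have hP2 : IsPGroup 2 (closure ({e₁, e₂} : Set G)) := P.isPGroup'.to_le ((closure_le _).2 (by
      rintro x (rfl | rfl)
      exacts [quat_le D he₁Q, quat_le _ he₂Q]))
    set U := (closure ({e₁, e₂} : Set G)).map (MulAut.conj g).toMonoidHom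
    have hUa : ∀ u ∈ U, Commute u (D.t D.h 0) := by
      have hle : closure ({e₁, e₂} : Set G) ≤ centralizer ({D.s} : Set G) := (closure_le _).2 (by
        rintro x (rfl | rfl) <;> refine mem_centralizer_singleton_iff.2 ?_
        · rw [← hprod]
          exact ((Commute.refl e₁).mul_right (quat_comm D he₁Q he₂Q)).eq
        · rw [← hprod]
          exact ((quat_comm D he₁Q he₂Q).symm.mul_right (Commute.refl e₂)).eq)
      rintro _ ⟨x, hx, rfl⟩
      rw [← hg]
      have h0 : Commute x D.s := mem_centralizer_singleton_iff.1 (hle hx)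
      exact h0.map (MulAut.conj g)
    have hne1 : D.t D.h 0 ≠ 1 := fun h => D.h_ne (D.t_eq_one_iff.1 h).1
    have hnez : D.t D.h 0 ≠ zc D := fun h => D.h_ne (D.t_inj h).2.symm
    obtain ⟨c, hca, hc⟩ := full_of_index_two D hz (a_mem D) hne1 hnez (wa_relIndex D) U (hP2.map _) hUa
    have h1U : g * e₁ * g⁻¹ ∈ U := ⟨e₁, subset_closure (Or.inl rfl), rfl⟩
    have hf := cls_land D hz hc (cls_conj D (quat_subset_cls D he₁Q) g) h1U
    have hfa : Commute (c * (g * e₁ * g⁻¹) * c⁻¹) (D.t D.h 0) := by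
      have := (hUa _ h1U).map (MulAut.conj c)
      simpa [hca.eq] using this
    have hff : c * (g * e₁ * g⁻¹) * c⁻¹ * (c * (g * e₁ * g⁻¹) * c⁻¹) = zc D := by
      rw [show c * (g * e₁ * g⁻¹) * c⁻¹ * (c * (g * e₁ * g⁻¹) * c⁻¹) =
        (c * g) * (e₁ * e₁) * (c * g)⁻¹ by group, he₁, ts_sq, conj_zc D hz]
    have hconj : IsConj e₁ (c * (g * e₁ * g⁻¹) * c⁻¹) := isConj_iff.2 ⟨c * g, by group⟩
    rcases hf with ⟨k, hk⟩ | ⟨k, hk⟩
    · rw [hk] at hff hconj
      rcases root_t D hff with f | f <;> rw [f] at hconj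
      · exact hconj.symm
      · exact hinv.trans hconj.symm
    · exfalso
      rw [hk] at hfa
      have h2 := hfa.eq
      rw [ts_mul_t, D.t_t_assoc] at h2
      have h3 := (D.t_inj (mul_right_cancel h2)).1
      exact D.h_ne (by linear_combination -h3)
  rcases he with ⟨k, rfl⟩ | ⟨k, rfl⟩
  · rcases root_t D hee with f | f <;> rw [f]
    exact hinv
  · exact hx k

/-- A normal subgroup meeting a quaternion subgroup outside `⟨z⟩` contains it. -/
theorem quat_le_normal (hs : IsConj D.s (D.t D.h 0)) {J : Subgroup G} [hJ : J.Normal] {x : G}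
    (hx : x ∈ quat D) (hxJ : x ∈ J) (hx1 : x ≠ 1) (hxz : x ≠ zc D) : quat D ≤ J := by
  obtain ⟨m, hm⟩ := exists_root_pow D _ x hx rfl hx1 hxz
  refine (quat_le_closure D).trans ((closure_le _).2 ?_)
  rintro r ⟨hr, hrr⟩
  obtain ⟨c, hc⟩ := isConj_iff.1
    ((root_isConj D hz hs (pow_mem hx m) hm).symm.trans (root_isConj D hz hs hr hrr))
  rw [← hc]
  exact hJ.conj_mem _ (pow_mem hxJ m) c

variable (hO : Cfsg.oddCore G = ⊥)
include hO

/-- Conjugates of roots in different quaternion subgroups commute. -/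
theorem roots_commute {e f : G} (he : e ∈ cls D) (hee : e * e = zc D) (hf : f ∈ cls (swap D))
    (hff : f * f = zc D) : Commute e f := by
  set Z := zpowers (zc D) with hZ
  haveI hZn : Z.Normal := ⟨fun x hx g => by
    obtain ⟨k, rfl⟩ := mem_zpowers_iff.1 hx
    rw [((hz g).zpow_right k).eq, mul_inv_cancel_right]
    exact hx⟩
  set π := QuotientGroup.mk' Z with hπ
  have hzo : orderOf (zc D) = 2 := orderOf_eq_prime (by rw [sq, zc_sq]) (zc_ne D)
  have hZ2 : IsPGroup 2 π.ker := by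
    rw [hπ, QuotientGroup.ker_mk']
    exact IsPGroup.of_card (n := 1) (by rw [hZ, Nat.card_zpowers, hzo]; rfl)
  have hlift : ∀ (D' : Shape (P : Subgroup G) d) (x : G ⧸ Z), x ∈ π '' cls D' →
      ∀ Q : Subgroup (G ⧸ Z), x ∈ Q → ∃ x' ∈ cls D', π x' = x ∧ x' ∈ Q.comap π := by
    rintro D' _ ⟨x, hx, rfl⟩ Q hQ
    exact ⟨x, hx, rfl, hQ⟩
  have hzs : ∀ x : G, Commute x (zc (swap D)) := by rw [swap_zc]; exact hz
  have fam : CommClosed.Families (π '' cls D) (π '' cls (swap D)) := by
    refine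
    { conj₁ := ?_, conj₂ := ?_, two₁ := ?_, two₂ := ?_, mul₁ := ?_, mul₂ := ?_, comm := ?_, disj := ?_ }
    · rintro _ ⟨x, hx, rfl⟩ g
      obtain ⟨g, rfl⟩ := QuotientGroup.mk'_surjective Z g
      exact ⟨g * x * g⁻¹, cls_conj D hx g, by simp [hπ]⟩
    · rintro _ ⟨x, hx, rfl⟩ g
      obtain ⟨g, rfl⟩ := QuotientGroup.mk'_surjective Z g
      exact ⟨g * x * g⁻¹, cls_conj _ hx g, by simp [hπ]⟩
    · rintro _ ⟨x, hx, rfl⟩
      rw [← MonoidHom.map_zpowers]
      exact (cls_two D hx).map π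
    · rintro _ ⟨x, hx, rfl⟩
      rw [← MonoidHom.map_zpowers]
      exact (cls_two _ hx).map π
    · intro Q hQ x hx y hy hxQ hyQ
      obtain ⟨x', hx', rfl, hxU⟩ := hlift D x hx Q hxQ
      obtain ⟨y', hy', rfl, hyU⟩ := hlift D y hy Q hyQ
      obtain ⟨c, hc⟩ := exists_conj_le P (hQ.comap_of_ker_isPGroup π hZ2)
      refine ⟨x' * y', ⟨c, ?_⟩, map_mul π x' y'⟩
      have := mul_mem (cls_land D hz hc hx' hxU) (cls_land D hz hc hy' hyU)
      rwa [show c * x' * c⁻¹ * (c * y' * c⁻¹) = c * (x' * y') * c⁻¹ by group] at this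
    · intro Q hQ x hx y hy hxQ hyQ
      obtain ⟨x', hx', rfl, hxU⟩ := hlift _ x hx Q hxQ
      obtain ⟨y', hy', rfl, hyU⟩ := hlift _ y hy Q hyQ
      obtain ⟨c, hc⟩ := exists_conj_le P (hQ.comap_of_ker_isPGroup π hZ2)
      refine ⟨x' * y', ⟨c, ?_⟩, map_mul π x' y'⟩
      have := mul_mem (cls_land _ hzs hc hx' hxU) (cls_land _ hzs hc hy' hyU)
      rwa [show c * x' * c⁻¹ * (c * y' * c⁻¹) = c * (x' * y') * c⁻¹ by group] at this
    · intro Q hQ x hx y hy hxQ hyQ
      obtain ⟨x', hx', rfl, hxU⟩ := hlift _ x hx Q hxQ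
      obtain ⟨y', hy', rfl, hyU⟩ := hlift _ y hy Q hyQ
      obtain ⟨c, hc⟩ := exists_conj_le P (hQ.comap_of_ker_isPGroup π hZ2)
      have h := quat_comm D (cls_land D hz hc hx' hxU) (cls_land _ hzs hc hy' hyU)
      exact (((Commute.conj_iff c).1 h).map π).eq
    · rintro _ ⟨x, hx, rfl⟩ hx2
      obtain ⟨y, hy, hxy⟩ := hx2
      have hp : IsPGroup 2 ((zpowers (π x)).comap π) := by
        refine IsPGroup.comap_of_ker_isPGroup ?_ π hZ2
        rw [← MonoidHom.map_zpowers]
        exact (cls_two D hx).map π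
      obtain ⟨c, hc⟩ := exists_conj_le P hp
      have h1 := cls_land D hz hc hx (mem_zpowers (π x))
      have h2 := cls_land _ hzs hc hy (hxy.symm ▸ mem_zpowers (π x))
      have hd : x⁻¹ * y ∈ Z := by
        refine (QuotientGroup.eq_one_iff _).1 ?_
        show π (x⁻¹ * y) = 1
        rw [map_mul, map_inv, hxy, inv_mul_cancel]
      have h3 : c * y * c⁻¹ ∈ quat D := by
        rw [show c * y * c⁻¹ = c * x * c⁻¹ * (c * (x⁻¹ * y) * c⁻¹) by group]
        refine mul_mem h1 ?_
        obtain ⟨k, hk⟩ := mem_zpowers_iff.1 hd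
        rw [← hk, ← conj_zpow, conj_zc D hz]
        exact zpow_mem (zc_mem_quat D) k
      rw [← hxy]
      rcases quat_inf D h3 h2 with e | e
      · rw [conj_eq_one_iff] at e
        rw [e, map_one]
      · have e2 : c * y * c⁻¹ = c * zc D * c⁻¹ := by rw [e, conj_zc D hz]
        rw [mul_left_cancel (mul_right_cancel e2)]
        exact (QuotientGroup.eq_one_iff _).2 (mem_zpowers _)
  have hcore : Cfsg.oddCore (G ⧸ Z) = ⊥ := by
    haveI : (Cfsg.oddCore (G ⧸ Z)).Normal := Solvable.pPrimeCore_normal 2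
    set N := (Cfsg.oddCore (G ⧸ Z)).comap π with hN
    have hle : Z ≤ N := fun x hx => by
      rw [hN, mem_comap, show π x = 1 from (QuotientGroup.eq_one_iff x).2 hx]
      exact one_mem _
    have hodd : Odd (Z.relIndex N) := by
      have e : Z.relIndex N = Nat.card (Cfsg.oddCore (G ⧸ Z)) := by
        calc Z.relIndex N = ((⊥ : Subgroup (G ⧸ Z)).comap π).relIndex N := by
              rw [MonoidHom.comap_bot, hπ, QuotientGroup.ker_mk']
          _ = (⊥ : Subgroup (G ⧸ Z)).relIndex (N.map π) := relIndex_comap _ _ _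
          _ = _ := by
              rw [relIndex_bot_left, hN, map_comap_eq_self_of_surjective (QuotientGroup.mk'_surjective Z)]
      rw [e]
      exact LocalB.odd_card_oddCore
    have h := CommClosed.mem_zpowers_of_odd_relIndex hO hzo (fun x => (hz x).eq) (M := N) hle hodd
    rw [eq_bot_iff]
    intro x hx
    obtain ⟨x, rfl⟩ := QuotientGroup.mk'_surjective Z x
    exact (QuotientGroup.eq_one_iff x).2 (h x hx)
  have hne : ∀ x : G, x * x = zc D → orderOf (π x) = 2 := fun x hxx => by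
    refine orderOf_eq_prime ?_ fun h => ?_
    · rw [sq, ← map_mul, hxx]
      exact (QuotientGroup.eq_one_iff _).2 (mem_zpowers _)
    · obtain ⟨k, hk⟩ := mem_zpowers_iff.1 ((QuotientGroup.eq_one_iff x).1 h)
      rw [← hk, ← zpow_add, ← two_mul, zpow_mul, zpow_two, zc_sq, one_zpow] at hxx
      exact zc_ne D hxx.symm
  have h := CommClosed.comm_mem_oddCore (G ⧸ Z) _ _ fam (π e) ⟨e, he, rfl⟩ (π f) ⟨f, hf, rfl⟩
    (hne e hee) (hne f hff)
  rw [hcore, mem_bot] at h
  have hcomm : π e * π f = π f * π e := mul_inv_eq_iff_eq_mul.1 (mul_inv_eq_one.1 h)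
  have hsq : ∀ s ∈ ({π e, π f} : Set (G ⧸ Z)), s * s = 1 := by
    rintro s (rfl | rfl)
    · rw [← sq, ← hne e hee, pow_orderOf_eq_one]
    · rw [← sq, ← hne f hff, pow_orderOf_eq_one]
  have hQ : IsPGroup 2 (closure ({π e, π f} : Set (G ⧸ Z))) := CommClosed.isPGroup_closure_comm hsq (by
    rintro s (rfl | rfl) t (rfl | rfl) <;> first | rfl | exact hcomm | exact hcomm.symm)
  obtain ⟨c, hc⟩ := exists_conj_le P (hQ.comap_of_ker_isPGroup π hZ2)
  have h1 := cls_land D hz hc he (show e ∈ (closure ({π e, π f} : Set (G ⧸ Z))).comap π from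
    subset_closure (Or.inl rfl))
  have h2 := cls_land _ hzs hc hf (show f ∈ (closure ({π e, π f} : Set (G ⧸ Z))).comap π from
    subset_closure (Or.inr rfl))
  exact (Commute.conj_iff c).1 (quat_comm D h1 h2)

/-- The normal closures commute. -/
theorem normalClosure_commute {x y : G} (hx : x ∈ normalClosure (quat D : Set G))
    (hy : y ∈ normalClosure (quat (swap D) : Set G)) : Commute x y := by
  have hgen : ∀ D' : Shape (P : Subgroup G) d, zc D' = zc D →
      normalClosure (quat D' : Set G) ≤ closure {r : G | r ∈ cls D' ∧ r * r = zc D} := by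
    intro D' hD'
    haveI : (closure {r : G | r ∈ cls D' ∧ r * r = zc D}).Normal := ⟨fun n hn g => by
      have hle : closure {r : G | r ∈ cls D' ∧ r * r = zc D} ≤
          (closure {r : G | r ∈ cls D' ∧ r * r = zc D}).comap (MulAut.conj g).toMonoidHom := by
        refine (closure_le _).2 fun r hr => subset_closure ⟨cls_conj D' hr.1 g, ?_⟩
        show g * r * g⁻¹ * (g * r * g⁻¹) = zc D
        rw [show g * r * g⁻¹ * (g * r * g⁻¹) = g * (r * r) * g⁻¹ by group, hr.2, conj_zc D hz]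
      exact hle hn⟩
    refine normalClosure_le_normal ((quat_le_closure D').trans ((closure_le _).2 ?_))
    rintro r ⟨hr, hrr⟩
    exact subset_closure ⟨quat_subset_cls D' hr, by rw [hrr, hD']⟩
  have h1 := hgen D rfl hx
  have h2 := hgen _ (swap_zc D) hy
  have h3 : closure {r : G | r ∈ cls D ∧ r * r = zc D} ≤
      centralizer (closure {r : G | r ∈ cls (swap D) ∧ r * r = zc D} : Set G) := by
    refine (closure_le _).2 fun r hr => ?_
    rw [centralizer_closure]
    exact mem_centralizer_iff.2 fun s hs => (roots_commute D hz hO hr.1 hr.2 hs.1 hs.2).symm.eq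
  exact (mem_centralizer_iff.1 (h3 h1) y h2).symm

/-- The normal closure of a quaternion subgroup meets the Sylow subgroup in it. -/
theorem normalClosure_inf {x : G} (hx : x ∈ normalClosure (quat D : Set G))
    (hxP : x ∈ (P : Subgroup G)) : x ∈ quat D :=
  mem_quat_of_comm D hxP fun _ hy => normalClosure_commute D hz hO hx (subset_normalClosure hy)

omit hz hO

end CfsgLib.GTwoCent
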